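import Cfsg.Agent.Lib.Base.MinimalNormal
import Cfsg.Agent.Lib.Coprime.Action2

/-!
# The `p`-part of a solvable linear group with abelian Fitting layer

If `H` is solvable, acts faithfully and irreducibly on an elementary abelian `p`-group `V`, and every
normal `p'`-subgroup of `H` of nilpotency class at most two is abelian, then `|V|` does not divide `|H|`.
-/

set_option autoImplicit false
set_option linter.style.haveILetI false

namespace CfsgLib.Berger

open Subgroup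

variable {Γ : Type*} [Group Γ] [Finite Γ]

/-- Conjugates of `Y` by `H` stay in `Y`. -/
def Inv (H Y : Subgroup Γ) : Prop := ∀ h ∈ H, ∀ y ∈ Y, h * y * h⁻¹ ∈ Y

theorem Inv.map_eq {H Y : Subgroup Γ} (hY : Inv H Y) {h : Γ} (hh : h ∈ H) :
    Y.map (MulAut.conj h).toMonoidHom = Y := by
  ext x
  constructor
  · rintro ⟨y, hy, rfl⟩
    exact hY h hh y hy
  · intro hx
    exact ⟨h⁻¹ * x * h, by simpa using hY h⁻¹ (H.inv_mem hh) x hx, by simp [mul_assoc]⟩

/-- `H`-invariance of centralisers. -/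
theorem Inv.centralizer {H Y : Subgroup Γ} (hY : Inv H Y) :
    Inv H (Subgroup.centralizer (Y : Set Γ)) := by
  intro h hh c hc
  rw [Subgroup.mem_centralizer_iff] at hc ⊢
  intro y hy
  have h1 := hc (h⁻¹ * y * h) (by simpa using hY h⁻¹ (H.inv_mem hh) y hy)
  calc y * (h * c * h⁻¹) = h * ((h⁻¹ * y * h) * c) * h⁻¹ := by group
    _ = h * (c * (h⁻¹ * y * h)) * h⁻¹ := by rw [h1]
    _ = h * c * h⁻¹ * y := by group

/-- A finite `p`-group acting by conjugation on a nontrivial `p`-subgroup fixes a point. -/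
theorem exists_fixed {p : ℕ} [Fact p.Prime] (S : Subgroup Γ) (hS : IsPGroup p S) (W : Subgroup Γ)
    (hW : IsPGroup p W) (hW1 : W ≠ ⊥) (hinv : Inv S W) :
    ∃ v ∈ W, v ≠ 1 ∧ ∀ s ∈ S, s * v * s⁻¹ = v := by
  classical
  letI : MulAction S W :=
    { smul := fun s w => ⟨(s : Γ) * w * (s : Γ)⁻¹, hinv s s.2 w w.2⟩
      one_smul := fun w => Subtype.ext (by
        show ((1 : S) : Γ) * (w : Γ) * ((1 : S) : Γ)⁻¹ = (w : Γ); simp)
      mul_smul := fun a b w => Subtype.ext (by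
        show ((a * b : S) : Γ) * (w : Γ) * ((a * b : S) : Γ)⁻¹ =
          (a : Γ) * ((b : Γ) * (w : Γ) * (b : Γ)⁻¹) * (a : Γ)⁻¹
        simp [mul_assoc]) }
  haveI := (Subgroup.nontrivial_iff_ne_bot W).2 hW1
  obtain ⟨n, hn, hcard⟩ := hW.nontrivial_iff_card.1 inferInstance
  obtain ⟨b, hb, hb1⟩ := hS.exists_fixed_point_of_prime_dvd_card_of_fixed_point W
    (hcard ▸ dvd_pow_self p hn.ne') (a := 1) (fun s => Subtype.ext (by
      show (s : Γ) * ((1 : W) : Γ) * (s : Γ)⁻¹ = ((1 : W) : Γ); simp))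
  exact ⟨b, b.2, fun e => hb1 (Subtype.ext e.symm), fun s hs => congrArg Subtype.val (hb ⟨s, hs⟩)⟩

/-- Commutation up to a central factor. -/
theorem pow_conj {y z c : Γ} (hyc : Commute y c) (hc : y * z * y⁻¹ = c * z) :
    ∀ n : ℕ, y ^ n * z * (y ^ n)⁻¹ = c ^ n * z
  | 0 => by simp
  | n + 1 => by
    calc y ^ (n + 1) * z * (y ^ (n + 1))⁻¹ = y * (y ^ n * z * (y ^ n)⁻¹) * y⁻¹ := by group
      _ = y * (c ^ n * z) * y⁻¹ := by rw [pow_conj hyc hc n]
      _ = c ^ n * (y * z * y⁻¹) := by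
          rw [← mul_assoc, (hyc.pow_right n).eq]; group
      _ = c ^ (n + 1) * z := by rw [hc, pow_succ, mul_assoc]

/-- `p'`-order from class two with `p'`-commutators and no normal `p`-subgroup. -/
theorem not_dvd_class_two {p : ℕ} [hp : Fact p.Prime] {H Y : Subgroup Γ}
    (hOp : ∀ Q : Subgroup Γ, Q ≤ H → IsPGroup p Q → Inv H Q → Q = ⊥)
    (hYH : Y ≤ H) (hY : Inv H Y)
    (hcen : ∀ a ∈ Y, ∀ b ∈ Y, ∀ d ∈ Y, Commute (a * b * a⁻¹ * b⁻¹) d)
    (hcom : ∀ a ∈ Y, ∀ b ∈ Y, ∀ n : ℕ, (a * b * a⁻¹ * b⁻¹) ^ p ^ n = 1 → a * b * a⁻¹ * b⁻¹ = 1) :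
    ¬ p ∣ Nat.card Y := by
  have hcomm : ∀ y ∈ Y, ∀ z ∈ Y, ∀ n : ℕ, y ^ p ^ n = 1 → Commute y z := by
    intro y hy z hz n hn
    have h1 := pow_conj (y := y) (z := z) (hcen y hy z hz y hy).symm (by group) (p ^ n)
    rw [hn] at h1
    have h2 : (y * z * y⁻¹ * z⁻¹) ^ p ^ n = 1 := by simpa using h1.symm
    have h3 := hcom y hy z hz n h2
    rwa [mul_inv_eq_one, mul_inv_eq_iff_eq_mul] at h3
  let Q : Subgroup Γ :=
    { carrier := {y | y ∈ Y ∧ ∃ n : ℕ, y ^ p ^ n = 1}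
      one_mem' := ⟨Y.one_mem, 0, by simp⟩
      mul_mem' := fun {a b} ha hb => by
        obtain ⟨ha, m, hm⟩ := ha
        obtain ⟨hb, n, hn⟩ := hb
        refine ⟨Y.mul_mem ha hb, m + n, ?_⟩
        rw [(hcomm a ha b hb m hm).mul_pow, pow_add, pow_mul a, hm, one_pow, one_mul, mul_comm,
          pow_mul b, hn, one_pow]
      inv_mem' := fun {a} ha => ⟨Y.inv_mem ha.1, ha.2.imp fun n hn => by rw [inv_pow, hn, inv_one]⟩ }
  have hQ : Q = ⊥ := by
    refine hOp Q (fun x hx => hYH hx.1) (fun x => ?_) fun h hh y hy =>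
      ⟨hY h hh y hy.1, hy.2.imp fun n hn => by rw [conj_pow, hn, mul_one, mul_inv_cancel]⟩
    obtain ⟨n, hn⟩ := x.2.2
    exact ⟨n, Subtype.ext (by simpa using hn)⟩
  intro hdvd
  obtain ⟨x, hx⟩ := exists_prime_orderOf_dvd_card' (G := Y) p hdvd
  have hmem : (x : Γ) ∈ Q := ⟨x.2, 1, by
    rw [pow_one, ← hx, ← Subgroup.orderOf_coe, pow_orderOf_eq_one]⟩
  rw [hQ, Subgroup.mem_bot] at hmem
  rw [show x = 1 from Subtype.ext hmem, orderOf_one] at hx
  exact hp.out.one_lt.ne hx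

/-- A self-centralising abelian normal `p'`-subgroup of `H`. -/
theorem exists_abelian_self_centralizing {p : ℕ} [Fact p.Prime] {H : Subgroup Γ}
    (hs : Group.IsSolvable H)
    (hOp : ∀ Q : Subgroup Γ, Q ≤ H → IsPGroup p Q → Inv H Q → Q = ⊥)
    (hY : ∀ Y : Subgroup Γ, Y ≤ H → Inv H Y → ¬ p ∣ Nat.card Y →
      (∀ a ∈ Y, ∀ b ∈ Y, ∀ d ∈ Y, Commute (a * b * a⁻¹ * b⁻¹) d) →
      ∀ a ∈ Y, ∀ b ∈ Y, a * b = b * a) :
    ∃ F : Subgroup Γ, F ≤ H ∧ Inv H F ∧ (∀ a ∈ F, ∀ b ∈ F, a * b = b * a) ∧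
      ¬ p ∣ Nat.card F ∧ H ⊓ Subgroup.centralizer (F : Set Γ) ≤ F := by
  obtain ⟨F, -, hFmax⟩ := Finite.exists_le_maximal
    (p := fun F : Subgroup Γ => F ≤ H ∧ Inv H F ∧ ∀ a ∈ F, ∀ b ∈ F, a * b = b * a) (a := ⊥)
    ⟨bot_le, fun h _ y hy => by simp [Subgroup.mem_bot.1 hy],
      fun a ha b hb => by rw [Subgroup.mem_bot.1 ha, Subgroup.mem_bot.1 hb]⟩
  obtain ⟨⟨hFH, hFi, hFc⟩, hmax⟩ := hFmax
  have hFcomm : ∀ a ∈ F, ∀ b ∈ F, a * b * a⁻¹ * b⁻¹ = 1 := fun a ha b hb => by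
    rw [hFc a ha b hb]; group
  have hFp : ¬ p ∣ Nat.card F := not_dvd_class_two hOp hFH hFi
    (fun a ha b hb d _ => by rw [hFcomm a ha b hb]; exact Commute.one_left d)
    (fun a ha b hb n _ => hFcomm a ha b hb)
  refine ⟨F, hFH, hFi, hFc, hFp, ?_⟩
  by_contra hC
  set C := H ⊓ Subgroup.centralizer (F : Set Γ) with hCdef
  have hFC : F ≤ C := le_inf hFH fun a ha => Subgroup.mem_centralizer_iff.2 fun b hb => hFc b hb a ha
  have hCi : Inv H C := fun h hh y hy =>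
    ⟨H.mul_mem (H.mul_mem hh hy.1) (H.inv_mem hh), hFi.centralizer h hh y hy.2⟩
  obtain ⟨Y, hYle, hYmin⟩ := Finite.exists_le_minimal
    (p := fun Y : Subgroup Γ => Y ≤ C ∧ F ≤ Y ∧ ¬ Y ≤ F ∧ Inv H Y) (a := C) ⟨le_rfl, hFC, hC, hCi⟩
  obtain ⟨⟨hYC, hFY, hYF, hYi⟩, hmin⟩ := hYmin
  have hYH : Y ≤ H := hYC.trans inf_le_left
  have hFcen : ∀ f ∈ F, ∀ y ∈ Y, f * y = y * f := fun f hf y hy =>
    Subgroup.mem_centralizer_iff.1 (hYC hy).2 f hf
  set D := ⁅Y, Y⁆ with hD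
  have hDY : D ≤ Y := Subgroup.commutator_le_self Y
  have hDi : Inv H D := fun h hh y hy => by
    have := Subgroup.mem_map_of_mem (MulAut.conj h).toMonoidHom hy
    rw [hD, Subgroup.map_commutator, hYi.map_eq hh] at this
    exact this
  have hDF : D ≤ F := by
    by_contra hDF
    have hsupi : Inv H (F ⊔ D) := fun h hh y hy => by
      have := Subgroup.mem_map_of_mem (MulAut.conj h).toMonoidHom hy
      rw [Subgroup.map_sup, hFi.map_eq hh, hDi.map_eq hh] at this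
      exact this
    have hle : F ⊔ D ≤ Y := sup_le hFY hDY
    have heq : Y ≤ F ⊔ D := hmin ⟨hle.trans hYC, le_sup_left, fun h => hDF (le_sup_right.trans h),
      hsupi⟩ hle
    -- then the derived subgroup is perfect
    have hDne : D ≠ ⊥ := fun e => hDF (e ▸ bot_le)
    haveI := hs
    have hDs : Group.IsSolvable D :=
      Group.isSolvable_of_isSolvable_injective (Subgroup.inclusion_injective (hDY.trans hYH))
    refine (CfsgLib.Base.commutator_self_lt_of_isSolvable hDne hDs).ne (le_antisymm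
      (Subgroup.commutator_le_self D) ?_)
    have hnorm : D ≤ Subgroup.normalizer (F : Set Γ) := fun d hd =>
      Subgroup.mem_normalizer_iff.2 fun f => ⟨fun hf => hFi d (hYH (hDY hd)) f hf, fun hf => by
        simpa [mul_assoc] using hFi d⁻¹ (H.inv_mem (hYH (hDY hd))) _ hf⟩
    have hprod : ∀ y ∈ Y, ∃ f ∈ F, ∃ d ∈ D, f * d = y := fun y hy => by
      have h2 := heq hy
      rw [← SetLike.mem_coe, Subgroup.coe_mul_of_right_le_normalizer_left F D hnorm] at h2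
      obtain ⟨f, hf, d, hd, e⟩ := h2
      exact ⟨f, hf, d, hd, e⟩
    show D ≤ ⁅D, D⁆
    conv_lhs => rw [hD]
    rw [Subgroup.commutator_le]
    intro a ha b hb
    obtain ⟨f, hf, d, hd, rfl⟩ := hprod a ha
    obtain ⟨f', hf', d', hd', rfl⟩ := hprod b hb
    have hg := Subgroup.commutator_mem_commutator hd hd'
    rw [commutatorElement_def] at hg ⊢
    have c1 := hFcen f hf _ (Y.mul_mem (Y.mul_mem (hDY hd) (Y.mul_mem hb (Y.inv_mem (hDY hd))))
      (Y.inv_mem hb))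
    have e1 : f * d * (f' * d') * (f * d)⁻¹ * (f' * d')⁻¹ =
        f * (d * ((f' * d') * d⁻¹)) * f⁻¹ * (f' * d')⁻¹ := by group
    have e2 : f * (d * ((f' * d') * d⁻¹)) * f⁻¹ = d * ((f' * d') * d⁻¹) := by
      rw [hFcen f hf _ (Y.mul_mem (hDY hd) (Y.mul_mem hb (Y.inv_mem (hDY hd))))]; group
    have e3 : d * f' = f' * d := (hFcen f' hf' d (hDY hd)).symm
    rw [e1, e2, show d * ((f' * d') * d⁻¹) * (f' * d')⁻¹ = (d * f') * (d' * d⁻¹ * d'⁻¹) * f'⁻¹ by
      group, e3, show f' * d * (d' * d⁻¹ * d'⁻¹) * f'⁻¹ = f' * (d * d' * d⁻¹ * d'⁻¹) * f'⁻¹ by group,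
      hFcen f' hf' _ (hDY (Subgroup.commutator_le_self D hg)), mul_inv_cancel_right]
    exact hg
  have hcom : ∀ a ∈ Y, ∀ b ∈ Y, a * b * a⁻¹ * b⁻¹ ∈ F := fun a ha b hb => by
    rw [← commutatorElement_def]; exact hDF (Subgroup.commutator_mem_commutator ha hb)
  have hcen : ∀ a ∈ Y, ∀ b ∈ Y, ∀ d ∈ Y, Commute (a * b * a⁻¹ * b⁻¹) d := fun a ha b hb d hd =>
    hFcen _ (hcom a ha b hb) d hd
  have hYp : ¬ p ∣ Nat.card Y := not_dvd_class_two hOp hYH hYi hcen fun a ha b hb n hn => by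
    have h1 : orderOf (⟨_, hcom a ha b hb⟩ : F) ∣ p ^ n :=
      orderOf_dvd_of_pow_eq_one (Subtype.ext (by simpa using hn))
    have h2 : orderOf (⟨_, hcom a ha b hb⟩ : F) ∣ Nat.card F := orderOf_dvd_natCard _
    have h3 : orderOf (⟨_, hcom a ha b hb⟩ : F) = 1 :=
      Nat.Coprime.eq_one_of_dvd (((Fact.out (p := p.Prime)).coprime_iff_not_dvd.2 hFp).pow_left n
        |>.coprime_dvd_left h1) h2
    exact congrArg Subtype.val (orderOf_eq_one_iff.1 h3)
  exact hYF (hmax ⟨hYH, hYi, hY Y hYH hYi hYp hcen⟩ hFY)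

/-- The main bound. -/
theorem not_card_dvd {p : ℕ} [hp : Fact p.Prime] {V H : Subgroup Γ} [hVn : V.Normal] (hV1 : V ≠ ⊥)
    (hVc : ∀ a ∈ V, ∀ b ∈ V, a * b = b * a) (hVp : IsPGroup p V) (hs : Group.IsSolvable H)
    (hirr : ∀ U : Subgroup Γ, U ≤ V → Inv H U → U = ⊥ ∨ U = V)
    (hfaith : ∀ h ∈ H, (∀ v ∈ V, h * v = v * h) → h = 1)
    (hY : ∀ Y : Subgroup Γ, Y ≤ H → Inv H Y → ¬ p ∣ Nat.card Y →
      (∀ a ∈ Y, ∀ b ∈ Y, ∀ d ∈ Y, Commute (a * b * a⁻¹ * b⁻¹) d) →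
      ∀ a ∈ Y, ∀ b ∈ Y, a * b = b * a) :
    ¬ Nat.card V ∣ Nat.card H := by
  classical
  haveI : Fintype Γ := Fintype.ofFinite Γ
  have hVi : Inv H V := fun h _ v hv => hVn.conj_mem v hv h
  -- no normal p-subgroup
  have hOp : ∀ Q : Subgroup Γ, Q ≤ H → IsPGroup p Q → Inv H Q → Q = ⊥ := by
    intro Q hQH hQ hQi
    obtain ⟨v, hv, hv1, hfix⟩ := exists_fixed Q hQ V hVp hV1 fun q hq => hVi q (hQH hq)
    have hU : V ⊓ Subgroup.centralizer (Q : Set Γ) = V := by
      refine (hirr _ inf_le_left fun h hh u hu => ⟨hVi h hh u hu.1,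
        hQi.centralizer h hh u hu.2⟩).resolve_left fun e => hv1 ?_
      have hm : v ∈ V ⊓ Subgroup.centralizer (Q : Set Γ) := ⟨hv, Subgroup.mem_centralizer_iff.2
        fun q hq => mul_inv_eq_iff_eq_mul.1 (hfix q hq)⟩
      rwa [e, Subgroup.mem_bot] at hm
    refine (Subgroup.eq_bot_iff_forall Q).2 fun q hq => hfaith q (hQH hq) fun u hu => ?_
    rw [← hU] at hu
    exact Subgroup.mem_centralizer_iff.1 hu.2 q hq
  obtain ⟨F, hFH, hFi, hFc, hFp, hCF⟩ := exists_abelian_self_centralizing hs hOp hY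
  obtain ⟨j, hj⟩ := hVp.exists_card_eq
  have hj0 : j ≠ 0 := fun h => hV1 (Subgroup.eq_bot_of_card_eq V (by rw [hj, h, pow_zero]))
  by_cases hF1 : F = ⊥
  · intro hdvd
    have hH : H = ⊥ := le_bot_iff.1 fun h hh => by
      rw [← hF1]
      refine hCF ⟨hh, Subgroup.mem_centralizer_iff.2 fun y hy => ?_⟩
      rw [SetLike.mem_coe, hF1, Subgroup.mem_bot] at hy
      rw [hy, one_mul, mul_one]
    rw [hH, Subgroup.card_bot, hj, Nat.dvd_one] at hdvd
    exact (Nat.one_lt_pow hj0 hp.out.one_lt).ne' hdvd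
  -- point stabilisers
  let st : Γ → Subgroup Γ := fun v => F ⊓ Subgroup.centralizer {v}
  have hst : ∀ v f, f ∈ st v ↔ f ∈ F ∧ f * v = v * f := fun v f => by
    simp [st, Subgroup.mem_centralizer_singleton_iff]
  let P : Subgroup Γ → Prop := fun A => ∃ v ∈ V, v ≠ 1 ∧ A = st v
  let 𝒜 : Finset (Subgroup Γ) := Finset.univ.filter fun A => Maximal P A
  let W : Subgroup Γ → Subgroup Γ := fun A => V ⊓ Subgroup.centralizer (A : Set Γ)
  have hAmax : ∀ A ∈ 𝒜, Maximal P A := fun A hA => (Finset.mem_filter.1 hA).2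
  have hAF : ∀ A ∈ 𝒜, A ≤ F := fun A hA => by
    obtain ⟨v, -, -, rfl⟩ := (hAmax A hA).1
    exact inf_le_left
  have hWne : ∀ A ∈ 𝒜, W A ≠ ⊥ := fun A hA e => by
    obtain ⟨v, hv, hv1, rfl⟩ := (hAmax A hA).1
    refine hv1 ?_
    have hm : v ∈ W (st v) := ⟨hv, Subgroup.mem_centralizer_iff.2 fun f hf => ((hst v f).1 hf).2⟩
    rwa [e, Subgroup.mem_bot] at hm
  have hWst : ∀ A ∈ 𝒜, ∀ v ∈ W A, v ≠ 1 → st v = A := fun A hA v hv hv1 => by
    have hle : A ≤ st v := fun f hf =>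
      (hst v f).2 ⟨hAF A hA hf, Subgroup.mem_centralizer_iff.1 hv.2 f hf⟩
    exact le_antisymm ((hAmax A hA).2 ⟨v, hv.1, hv1, rfl⟩ hle) hle
  have hmap : ∀ h ∈ H, ∀ v, (st v).map (MulAut.conj h).toMonoidHom = st (h * v * h⁻¹) := by
    intro h hh v
    ext x
    rw [hst]
    constructor
    · rintro ⟨f, hf, rfl⟩
      rw [SetLike.mem_coe, hst] at hf
      refine ⟨hFi h hh f hf.1, ?_⟩
      show h * f * h⁻¹ * (h * v * h⁻¹) = h * v * h⁻¹ * (h * f * h⁻¹)
      rw [show h * f * h⁻¹ * (h * v * h⁻¹) = h * (f * v) * h⁻¹ by group, hf.2]; group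
    · rintro ⟨hxF, hx⟩
      refine ⟨h⁻¹ * x * h, (hst v _).2 ⟨by simpa using hFi h⁻¹ (H.inv_mem hh) x hxF, ?_⟩,
        by simp [mul_assoc]⟩
      rw [show h⁻¹ * x * h * v = h⁻¹ * (x * (h * v * h⁻¹)) * h by group, hx]; group
  have hconjP : ∀ h ∈ H, ∀ A, P A → P (A.map (MulAut.conj h).toMonoidHom) := by
    rintro h hh _ ⟨v, hv, hv1, rfl⟩
    exact ⟨h * v * h⁻¹, hVi h hh v hv, fun e => hv1 (by simpa using e), hmap h hh v⟩
  have hmapmap : ∀ (a b : Γ) (A : Subgroup Γ), (A.map (MulAut.conj b).toMonoidHom).map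
      (MulAut.conj a).toMonoidHom = A.map (MulAut.conj (a * b)).toMonoidHom := fun a b A => by
    rw [Subgroup.map_map]; congr 1; ext; simp [mul_assoc]
  have hmap1 : ∀ (A : Subgroup Γ), A.map (MulAut.conj (1 : Γ)).toMonoidHom = A := fun A => by
    ext; simp
  have hconj : ∀ h ∈ H, ∀ A ∈ 𝒜, A.map (MulAut.conj h).toMonoidHom ∈ 𝒜 := by
    intro h hh A hA
    refine Finset.mem_filter.2 ⟨Finset.mem_univ _, hconjP h hh A (hAmax A hA).1, fun B hB hle => ?_⟩
    have hle' : A ≤ B.map (MulAut.conj h⁻¹).toMonoidHom := by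
      have := Subgroup.map_mono (f := (MulAut.conj h⁻¹).toMonoidHom) hle
      rwa [hmapmap, inv_mul_cancel, hmap1] at this
    have := Subgroup.map_mono (f := (MulAut.conj h).toMonoidHom)
      ((hAmax A hA).2 (hconjP h⁻¹ (H.inv_mem hh) B hB) hle')
    rwa [hmapmap, mul_inv_cancel, hmap1] at this
  have hWconj : ∀ h ∈ H, ∀ A, ∀ x ∈ W A, h * x * h⁻¹ ∈ W (A.map (MulAut.conj h).toMonoidHom) := by
    intro h hh A x hx
    refine ⟨hVi h hh x hx.1, Subgroup.mem_centralizer_iff.2 ?_⟩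
    rintro _ ⟨a, ha, rfl⟩
    show h * a * h⁻¹ * (h * x * h⁻¹) = h * x * h⁻¹ * (h * a * h⁻¹)
    rw [show h * a * h⁻¹ * (h * x * h⁻¹) = h * (a * x) * h⁻¹ by group,
      Subgroup.mem_centralizer_iff.1 hx.2 a ha]; group
  obtain ⟨v₀, hv₀, hv₀1⟩ := V.ne_bot_iff_exists_ne_one.1 hV1 |> fun ⟨x, hx⟩ =>
    (⟨x.1, x.2, fun e => hx (Subtype.ext e)⟩ : ∃ v, v ∈ V ∧ v ≠ 1)
  obtain ⟨A₀, -, hA₀⟩ := Finite.exists_le_maximal (p := P) (a := st v₀) ⟨v₀, hv₀, hv₀1, rfl⟩
  have hA₀m : A₀ ∈ 𝒜 := Finset.mem_filter.2 ⟨Finset.mem_univ _, hA₀⟩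
  -- the fixed spaces generate
  let U := Subgroup.closure {x | ∃ A ∈ 𝒜, x ∈ W A}
  have hUV : U = V := by
    have hUle : U ≤ V := (Subgroup.closure_le V).2 fun x ⟨A, _, hx⟩ => hx.1
    refine (hirr U hUle fun h hh u hu => ?_).resolve_left fun e => hWne A₀ hA₀m (le_bot_iff.1
      fun x hx => e ▸ Subgroup.subset_closure ⟨A₀, hA₀m, hx⟩)
    have hu' := Subgroup.mem_map_of_mem (MulAut.conj h).toMonoidHom hu
    rw [MonoidHom.map_closure] at hu'
    refine Subgroup.closure_mono ?_ hu'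
    rintro _ ⟨x, ⟨A, hA, hx⟩, rfl⟩
    exact ⟨_, hconj h hh A hA, hWconj h hh A x hx⟩
  have hinter : ∀ x, (∀ A ∈ 𝒜, x ∈ A) → x = 1 := fun x hx => by
    refine hfaith x (hFH (hAF A₀ hA₀m (hx A₀ hA₀m))) fun v hv => ?_
    rw [← hUV] at hv
    have hle : U ≤ Subgroup.centralizer {x} := (Subgroup.closure_le _).2 fun y ⟨A, hA, hy⟩ =>
      Subgroup.mem_centralizer_singleton_iff.2 (Subgroup.mem_centralizer_iff.1 hy.2 x (hx A hA)).symm
    exact (Subgroup.mem_centralizer_singleton_iff.1 (hle hv)).symm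
  -- independence of the fixed spaces
  have hcopF : ∀ A ∈ 𝒜, (Nat.card V).Coprime (Nat.card A) := fun A hA => by
    rw [hj]
    refine Nat.Coprime.pow_left j (hp.out.coprime_iff_not_dvd.2 fun h => hFp ?_)
    exact h.trans (Subgroup.card_dvd_of_le (hAF A hA))
  have hprod : ∏ A : 𝒜, Nat.card (W A.1) ≤ Nat.card V := by
    letI : CommGroup V :=
      { (inferInstance : Group V) with
        mul_comm := fun a b => Subtype.ext (hVc a a.2 b b.2) }
    let cn : Γ → V →* V := fun a => (MulAut.conjNormal a : MulAut V).toMonoidHom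
    let N : Subgroup Γ → V →* V := fun B =>
      { toFun := fun v => ∏ a : B, cn a v
        map_one' := by simp
        map_mul' := fun v w => by simp [Finset.prod_mul_distrib] }
    have hNself : ∀ B : Subgroup Γ, ∀ v : V, (v : Γ) ∈ W B → N B v = v ^ Nat.card B := by
      intro B v hv
      show ∏ a : B, cn a v = _
      rw [Finset.prod_eq_pow_card (b := v) fun a _ => Subtype.ext ?_, Finset.card_univ,
        Nat.card_eq_fintype_card]
      show ((MulAut.conjNormal (a : Γ) v : V) : Γ) = v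
      rw [MulAut.conjNormal_apply, Subgroup.mem_centralizer_iff.1 hv.2 a a.2, mul_inv_cancel_right]
    have hNother : ∀ A ∈ 𝒜, ∀ B ∈ 𝒜, A ≠ B → ∀ v : V, (v : Γ) ∈ W A → N B v = 1 := by
      intro A hA B hB hne v hv
      have hfix : ∀ (f : Γ), (∀ b : B, f * b * v * (f * b)⁻¹ = (b : Γ) * v * (b : Γ)⁻¹) →
          f * (N B v : V) * f⁻¹ = (N B v : V) := by
        intro f hf
        have : cn f (N B v) = N B v := by
          show cn f (∏ a : B, cn a v) = ∏ a : B, cn a v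
          rw [map_prod]
          refine Finset.prod_congr rfl fun a _ => Subtype.ext ?_
          show f * ((a : Γ) * v * (a : Γ)⁻¹) * f⁻¹ = (a : Γ) * v * (a : Γ)⁻¹
          conv_rhs => rw [← hf a]
          group
        exact congrArg Subtype.val this
      have hA' : ∀ f ∈ A, f * (N B v : V) * f⁻¹ = (N B v : V) := fun f hf => hfix f fun b => by
        rw [hFc f (hAF A hA hf) b (hAF B hB b.2),
          show (b : Γ) * f * v * ((b : Γ) * f)⁻¹ = (b : Γ) * (f * v * f⁻¹) * (b : Γ)⁻¹ by group,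
          Subgroup.mem_centralizer_iff.1 hv.2 f hf, mul_inv_cancel_right]
      have hB' : ∀ f ∈ B, f * (N B v : V) * f⁻¹ = (N B v : V) := fun f hf => by
        have : cn f (N B v) = N B v := by
          show cn f (∏ a : B, cn a v) = ∏ a : B, cn a v
          rw [map_prod]
          refine Fintype.prod_equiv (Equiv.mulLeft (⟨f, hf⟩ : B)) _ _ fun a => Subtype.ext ?_
          show f * ((a : Γ) * v * (a : Γ)⁻¹) * f⁻¹ = f * a * v * (f * a)⁻¹
          group
        exact congrArg Subtype.val this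
      by_contra hw
      have hw1 : ((N B v : V) : Γ) ≠ 1 := fun e => hw (Subtype.ext e)
      refine hne ((hWst A hA _ ⟨(N B v).2, Subgroup.mem_centralizer_iff.2 fun f hf =>
        mul_inv_eq_iff_eq_mul.1 (hA' f hf)⟩ hw1).symm.trans (hWst B hB _ ⟨(N B v).2,
        Subgroup.mem_centralizer_iff.2 fun f hf => mul_inv_eq_iff_eq_mul.1 (hB' f hf)⟩ hw1))
    let Φ : ((A : 𝒜) → W A.1) → V := fun f => ∏ A : 𝒜, ⟨(f A : Γ), (f A).2.1⟩
    have hΦ : Function.Injective Φ := by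
      intro f g he
      funext B
      have hh := congrArg (N B.1) he
      simp only [Φ, map_prod] at hh
      rw [Fintype.prod_eq_single B (fun A hA => hNother A.1 A.2 B.1 B.2
          (fun e => hA (Subtype.ext e)) _ (f A).2),
        Fintype.prod_eq_single B (fun A hA => hNother A.1 A.2 B.1 B.2
          (fun e => hA (Subtype.ext e)) _ (g A).2),
        hNself B.1 ⟨(f B : Γ), (f B).2.1⟩ (f B).2, hNself B.1 ⟨(g B : Γ), (g B).2.1⟩ (g B).2] at hh
      exact Subtype.ext (congrArg Subtype.val ((powCoprime (hcopF B.1 B.2)).injective hh) :)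
    have := Nat.card_le_card_of_injective Φ hΦ
    rwa [Nat.card_pi] at this
  -- a Sylow p-subgroup of H
  intro hdvd
  obtain ⟨T⟩ : Nonempty (Sylow p H) := inferInstance
  set S : Subgroup Γ := (T : Subgroup H).map H.subtype with hS
  have hSH : S ≤ H := Subgroup.map_subtype_le _
  have hSp : IsPGroup p S := T.isPGroup'.map _
  have hScard : Nat.card V ≤ Nat.card S := by
    rw [hS, Subgroup.card_map_of_injective H.subtype_injective, hj]
    refine Nat.le_of_dvd Nat.card_pos ?_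
    exact T.pow_dvd_card_of_pow_dvd_card (hj ▸ hdvd)
  letI : MulAction S 𝒜 :=
    { smul := fun s A => ⟨A.1.map (MulAut.conj (s : Γ)).toMonoidHom, hconj s (hSH s.2) A.1 A.2⟩
      one_smul := fun A => Subtype.ext (hmap1 A.1)
      mul_smul := fun a b A => Subtype.ext (hmapmap a b A.1).symm }
  let ρ := MulAction.toPermHom S 𝒜
  set S₀ : Subgroup Γ := ρ.ker.map S.subtype with hS₀
  have hS₀S : S₀ ≤ S := Subgroup.map_subtype_le _
  have hS₀p : IsPGroup p S₀ := (hSp.to_subgroup ρ.ker).map _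
  have hS₀fix : ∀ s ∈ S₀, ∀ A ∈ 𝒜, A.map (MulAut.conj s).toMonoidHom = A := by
    rintro _ ⟨s, hs, rfl⟩ A hA
    exact congrArg Subtype.val (show s • (⟨A, hA⟩ : 𝒜) = ⟨A, hA⟩ from
      Equiv.ext_iff.1 (MonoidHom.mem_ker.1 hs) ⟨A, hA⟩)
  have hcardS : Nat.card S = Nat.card S₀ * Nat.card ρ.range := by
    rw [← ρ.ker.card_mul_index, Subgroup.index_ker, hS₀,
      Subgroup.card_map_of_injective S.subtype_injective]
  -- bound for the permutation part
  have hk0 : 0 < Fintype.card 𝒜 := Fintype.card_pos_iff.2 ⟨⟨A₀, hA₀m⟩⟩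
  have hperm : Nat.card ρ.range ≤ p ^ (Fintype.card 𝒜 - 1) := by
    obtain ⟨r, hr⟩ := (hSp.of_surjective ρ.rangeRestrict ρ.rangeRestrict_surjective).exists_card_eq
    have hd : p ^ r ∣ Nat.factorial (Fintype.card 𝒜) := by
      rw [← hr, ← Nat.card_eq_fintype_card, ← Nat.card_perm]
      exact Subgroup.card_subgroup_dvd_card _
    rw [hr]
    refine Nat.pow_le_pow_right hp.out.pos ?_
    have h1 : r ≤ padicValNat p (Nat.factorial (Fintype.card 𝒜)) :=
      (padicValNat_dvd_iff_le (Nat.factorial_ne_zero _)).1 hd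
    have h2 := sub_one_mul_padicValNat_factorial_lt_of_ne_zero p hk0.ne'
    have h3 : padicValNat p (Nat.factorial (Fintype.card 𝒜)) ≤
        (p - 1) * padicValNat p (Nat.factorial (Fintype.card 𝒜)) :=
      Nat.le_mul_of_pos_left _ (Nat.sub_pos_of_lt hp.out.one_lt)
    omega
  -- bound for the fixing part
  have hbase : ∀ A : 𝒜, ∃ g ∈ F, ∃ v ∈ W A.1, v ≠ 1 ∧ (∀ s ∈ S₀, s * v * s⁻¹ = v) ∧
      A.1 ⊔ Subgroup.zpowers g = F := by
    rintro ⟨A, hA⟩
    have hWi : Inv S₀ (W A) := fun s hs x hx => by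
      have := hWconj s (hSH (hS₀S hs)) A x hx
      rwa [hS₀fix s hs A hA] at this
    obtain ⟨v, hv, hv1, hfix⟩ := exists_fixed S₀ hS₀p (W A) (hVp.to_le inf_le_left) (hWne A hA) hWi
    have hg : ∃ g ∈ F, A ⊔ Subgroup.zpowers g = F := by
      by_contra hno
      haveI : IsMulCommutative F := ⟨⟨fun a b => Subtype.ext (hFc a a.2 b b.2)⟩⟩
      have hn : F ≤ Subgroup.normalizer (W A : Set Γ) := by
        intro f hf
        have key : ∀ g ∈ F, ∀ x ∈ W A, g * x * g⁻¹ ∈ W A := fun g hg x hx => by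
          refine ⟨hVn.conj_mem x hx.1 g, Subgroup.mem_centralizer_iff.2 fun a ha => ?_⟩
          have h1 : a * g = g * a := hFc a (hAF A hA ha) g hg
          have h2 : g⁻¹ * a = a * g⁻¹ := hFc _ (F.inv_mem hg) a (hAF A hA ha)
          have h3 : a * x = x * a := Subgroup.mem_centralizer_iff.1 hx.2 a ha
          rw [← mul_assoc, ← mul_assoc, h1, mul_assoc g a x, h3, mul_assoc, mul_assoc, ← h2,
            ← mul_assoc, ← mul_assoc]
        refine Subgroup.mem_normalizer_iff.2 fun x => ⟨key f hf x, fun hx => ?_⟩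
        simpa [mul_assoc] using key f⁻¹ (F.inv_mem hf) _ hx
      have hcop : (Nat.card F).Coprime (Nat.card (W A)) := by
        refine Nat.Coprime.coprime_dvd_right (Subgroup.card_dvd_of_le inf_le_left) ?_
        rw [hj]
        exact Nat.Coprime.pow_right j (hp.out.coprime_iff_not_dvd.2 hFp).symm
      refine hWne A hA (le_bot_iff.1 (Coprime.le_of_centralizer_cyclic_quotient_le (Nat.card F) A
        (W A) (Nat.le_add_left _ _) (hAF A hA) hn hcop ?_ fun B hBF hB x hx => ?_))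
      · exact Subgroup.le_centralizer_iff.1 inf_le_right
      · by_contra hx1
        have hx1' : x ≠ 1 := fun e => hx1 (Subgroup.mem_bot.2 e)
        have hBst : B ≤ st x := fun b hb => (hst x b).2 ⟨hBF hb,
          Subgroup.mem_centralizer_iff.1 hx.2 b hb⟩
        have hBA : B ≤ A := hBst.trans (hWst A hA x hx.1 hx1').le
        obtain ⟨a, ha, he⟩ := hB
        exact hno ⟨a, ha, le_antisymm (sup_le (hAF A hA) ((Subgroup.zpowers_le).2 ha))
          (he.ge.trans (sup_le_sup_right hBA _))⟩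
    obtain ⟨g, hg, hgen⟩ := hg
    exact ⟨g, hg, v, hv, hv1, hfix, hgen⟩
  choose g hgF v hvW hv1 hvfix hgen using hbase
  letI : MulAction S₀ Γ := MulAction.compHom Γ ((MulAut.conj : Γ →* MulAut Γ).comp S₀.subtype)
  let u : 𝒜 → Γ := fun A => g A * v A * (g A)⁻¹
  have hsmul : ∀ (s : S₀) (x : Γ), s • x = (s : Γ) * x * (s : Γ)⁻¹ := fun s x => rfl
  have horb : ∀ A : 𝒜, p * Nat.card (MulAction.orbit S₀ (u A)) ≤ Nat.card (W A.1) := by
    intro A
    have huW : u A ∈ W A.1 := by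
      refine ⟨hVn.conj_mem _ (hvW A).1 _, Subgroup.mem_centralizer_iff.2 fun a ha => ?_⟩
      have h1 : a * g A = g A * a := hFc a (hAF A.1 A.2 ha) _ (hgF A)
      have h2 : (g A)⁻¹ * a = a * (g A)⁻¹ := hFc _ (F.inv_mem (hgF A)) a (hAF A.1 A.2 ha)
      have h3 : a * v A = v A * a := Subgroup.mem_centralizer_iff.1 (hvW A).2 a ha
      simp only [u]
      rw [← mul_assoc, ← mul_assoc, h1, mul_assoc (g A) a (v A), h3, mul_assoc, mul_assoc, ← h2,
        ← mul_assoc, ← mul_assoc]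
    have hu1 : u A ≠ 1 := fun e => hv1 A (by simpa [u] using e)
    have hsub : MulAction.orbit S₀ (u A) ⊆ ((W A.1 : Set Γ) \ {1}) := by
      rintro _ ⟨s, rfl⟩
      show s • u A ∈ (W A.1 : Set Γ) \ {1}
      rw [hsmul]
      refine ⟨?_, fun e => hu1 (by simpa using (Set.mem_singleton_iff.1 e))⟩
      have := hWconj s (hSH (hS₀S s.2)) A.1 (u A) huW
      rwa [hS₀fix s s.2 A.1 A.2] at this
    haveI : Finite (MulAction.orbit S₀ (u A)) := Subtype.finite
    obtain ⟨i, hi⟩ := hS₀p.card_orbit (u A)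
    obtain ⟨m, hm⟩ := (hVp.to_le (inf_le_left : W A.1 ≤ V)).exists_card_eq
    have hlt : p ^ i < p ^ m := by
      rw [← hi, ← hm]
      have h1 := Set.ncard_le_ncard hsub (Set.toFinite _)
      have h2 := Set.ncard_sdiff_singleton_lt_of_mem (W A.1).one_mem (Set.toFinite (W A.1 : Set Γ))
      rw [← Nat.card_coe_set_eq] at h1
      rw [← Nat.card_coe_set_eq (W A.1 : Set Γ)] at h2
      exact lt_of_le_of_lt h1 h2
    rw [hi, hm, ← pow_succ']
    exact Nat.pow_le_pow_right hp.out.pos ((Nat.pow_lt_pow_iff_right hp.out.one_lt).1 hlt)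
  have hinj : Function.Injective (fun (s : S₀) (A : 𝒜) =>
      (⟨s • u A, MulAction.mem_orbit _ _⟩ : MulAction.orbit S₀ (u A))) := by
    intro s s' he
    set t : S₀ := s'⁻¹ * s with ht
    suffices h : t = 1 by rwa [ht, inv_mul_eq_one, eq_comm] at h
    have htu : ∀ A, (t : Γ) * u A * (t : Γ)⁻¹ = u A := fun A => by
      rw [← hsmul, ht, mul_smul, show s • u A = s' • u A from congrArg Subtype.val (congrFun he A),
        inv_smul_smul]
    letI : CommGroup F :=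
      { (inferInstance : Group F) with mul_comm := fun a b => Subtype.ext (hFc a a.2 b b.2) }
    let ct : F →* F :=
      { toFun := fun z => ⟨(t : Γ) * z * (t : Γ)⁻¹, hFi t (hSH (hS₀S t.2)) z z.2⟩
        map_one' := by ext; simp
        map_mul' := fun a b => by ext; simp [mul_assoc] }
    let ε : F →* F := (MonoidHom.id F)⁻¹ * ct
    have hε : ∀ z : F, (ε z : Γ) = (z : Γ)⁻¹ * ((t : Γ) * z * (t : Γ)⁻¹) := fun z => rfl
    have hall : ∀ A : 𝒜, ∀ z ∈ F, z⁻¹ * ((t : Γ) * z * (t : Γ)⁻¹) ∈ A.1 := by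
      intro A z hz
      have hT : A.1 ⊔ Subgroup.zpowers (g A) ≤ ((A.1.subgroupOf F).comap ε).map F.subtype := by
        refine sup_le (fun a ha => ⟨⟨a, hAF A.1 A.2 ha⟩, ?_, rfl⟩) ((Subgroup.zpowers_le).2
          ⟨⟨g A, hgF A⟩, ?_, rfl⟩)
        · show (ε _ : Γ) ∈ A.1
          rw [hε]
          refine A.1.mul_mem (A.1.inv_mem ha) ?_
          have := Subgroup.mem_map_of_mem (MulAut.conj (t : Γ)).toMonoidHom ha
          rwa [hS₀fix t t.2 A.1 A.2] at this
        · show (ε _ : Γ) ∈ A.1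
          rw [hε, ← hWst A.1 A.2 (v A) (hvW A) (hv1 A), hst]
          refine ⟨F.mul_mem (F.inv_mem (hgF A)) (hFi t (hSH (hS₀S t.2)) _ (hgF A)), ?_⟩
          rw [← mul_inv_eq_iff_eq_mul]
          have h1 := hvfix A t t.2
          have h2 := htu A
          simp only [u] at h2
          have h3 : (t : Γ)⁻¹ * v A * (t : Γ) = v A := by
            conv_lhs => rw [← h1]
            group
          rw [show ((g A)⁻¹ * ((t : Γ) * g A * (t : Γ)⁻¹)) * v A *
              ((g A)⁻¹ * ((t : Γ) * g A * (t : Γ)⁻¹))⁻¹ =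
              (g A)⁻¹ * ((t : Γ) * (g A * ((t : Γ)⁻¹ * v A * (t : Γ)) * (g A)⁻¹) * (t : Γ)⁻¹) *
                g A by group, h3, h2]
          group
      have hz' : z ∈ A.1 ⊔ Subgroup.zpowers (g A) := by rw [hgen A]; exact hz
      obtain ⟨z', hz'', rfl⟩ := hT hz'
      exact hz''
    have htC : (t : Γ) ∈ F := hCF ⟨hSH (hS₀S t.2), Subgroup.mem_centralizer_iff.2 fun z hz => by
      have h1 := hinter _ fun A hA => hall ⟨A, hA⟩ z hz
      rw [inv_mul_eq_one, eq_mul_inv_iff_mul_eq] at h1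
      exact h1⟩
    obtain ⟨k, hk⟩ := hS₀p t
    have h1 : orderOf (⟨(t : Γ), htC⟩ : F) ∣ p ^ k :=
      orderOf_dvd_of_pow_eq_one (Subtype.ext (by simpa using congrArg Subtype.val hk))
    have h3 : orderOf (⟨(t : Γ), htC⟩ : F) = 1 :=
      Nat.Coprime.eq_one_of_dvd (((hp.out.coprime_iff_not_dvd.2 hFp).pow_left k).coprime_dvd_left h1)
        (orderOf_dvd_natCard _)
    exact Subtype.ext (congrArg (fun x : F => (x : Γ)) (orderOf_eq_one_iff.1 h3) :)
  haveI : ∀ A : 𝒜, Finite (MulAction.orbit S₀ (u A)) := fun A => Subtype.finite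
  have hcount := Nat.card_le_card_of_injective _ hinj
  rw [Nat.card_pi] at hcount
  have h4 : p ^ Fintype.card 𝒜 * Nat.card S₀ ≤ Nat.card V := by
    refine le_trans ?_ hprod
    refine (Nat.mul_le_mul_left _ hcount).trans ?_
    rw [← Finset.card_univ, ← Finset.prod_const, ← Finset.prod_mul_distrib]
    exact Finset.prod_le_prod' fun A _ => horb A
  have h5 : p * Nat.card S ≤ Nat.card V := by
    refine le_trans ?_ h4
    rw [hcardS, show p ^ Fintype.card 𝒜 = p * p ^ (Fintype.card 𝒜 - 1) by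
      rw [← pow_succ']; congr 1; omega, mul_assoc]
    exact Nat.mul_le_mul_left p (by rw [mul_comm]; exact Nat.mul_le_mul_right _ hperm)
  have := Nat.mul_le_mul_right (Nat.card S) hp.out.two_le
  have := Nat.card_pos (α := S)
  omega

end CfsgLib.Berger
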