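import Cfsg.Agent.Lib.CharsMore.GoingDown
import Cfsg.Agent.Lib.CharsMore.Extend
import Cfsg.Agent.Lib.Chars.Degree
import Cfsg.Agent.Lib.CharApps.Berger.PartBound

/-!
# Berger's theorem: quasiprimitive characters of solvable groups are primitive
-/

set_option autoImplicit false
set_option linter.unusedSectionVars false
set_option linter.style.haveILetI false

namespace CfsgLib.Berger

open Cfsg Subgroup CharsMore
open scoped ComplexConjugate commutatorElement

universe u v

section Generic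

variable {Γ : Type u} [Group Γ] [Fintype Γ] {X : Type v} [Group X] [Fintype X]

/-- Removing at most the multiplicity of a constituent leaves a character. -/
theorem char_sub {φ ζ : Γ → ℂ} (hφ : IsCharacter Γ φ) (hζ : IsIrrCharacter Γ ζ) {m i : ℕ}
    (hm : classInner φ ζ = m) (hi : i ≤ m) : IsCharacter Γ (φ - (i : ℂ) • ζ) := by
  classical
  refine Chars.isCharacter_iff_inner.2 ⟨Chars.isClassFunction_sub
    (Chars.isClassFunction_of_isCharacter hφ) (Chars.isClassFunction_smul _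
    (Chars.isClassFunction_of_isCharacter (Chars.isCharacter_of_irr hζ))), fun χ => ?_⟩
  obtain ⟨a, ha⟩ := Chars.inner_irr_right_nat hφ χ
  rw [Chars.inner_sub_left, Chars.inner_smul_left, Chars.inner_irr_of_isIrr hζ χ.2, ha]
  split_ifs with h
  · refine ⟨m - i, ?_⟩
    rw [← h] at ha
    rw [mul_one, ← ha, hm, Nat.cast_sub hi]
  · exact ⟨a, by rw [mul_zero, sub_zero]⟩

/-- Constituents restricted along a homomorphism. -/
theorem inner_mono {φ ζ : Γ → ℂ} (hφ : IsCharacter Γ φ) (hζ : IsIrrCharacter Γ ζ)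
    (hne : classInner φ ζ ≠ 0) (ι : X →* Γ) {ϕ : X → ℂ} (hϕ : IsCharacter X ϕ)
    (h : classInner (fun x => φ (ι x)) ϕ = 0) : classInner (fun x => ζ (ι x)) ϕ = 0 := by
  have hζc := Chars.isCharacter_of_irr hζ
  obtain ⟨m, hm⟩ := Chars.inner_char_nat hφ hζc
  have hm1 : 1 ≤ m := Nat.one_le_iff_ne_zero.2 fun e => hne (by rw [hm, e, Nat.cast_zero])
  have hr := char_sub hφ hζ hm hm1
  obtain ⟨a, ha⟩ := Chars.inner_char_nat (Chars.isCharacter_comp ι hζc) hϕ
  obtain ⟨b, hb⟩ := Chars.inner_char_nat (Chars.isCharacter_comp ι hr) hϕ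
  have e : (fun x => φ (ι x)) = (fun x => ζ (ι x)) + fun x => (φ - ((1 : ℕ) : ℂ) • ζ) (ι x) := by
    funext x; simp
  rw [e, Chars.inner_add_left, ha, hb] at h
  rw [ha]
  have : a + b = 0 := by exact_mod_cast h
  simp [(Nat.add_eq_zero_iff.1 this).1]

/-- Constituents of a character with homogeneous restriction have homogeneous restriction. -/
theorem mult_of_homog {φ ζ : Γ → ℂ} (hφ : IsCharacter Γ φ) (hζ : IsIrrCharacter Γ ζ)
    (hne : classInner φ ζ ≠ 0) (ι : X →* Γ) {ϕ : X → ℂ} (hϕ : IsIrrCharacter X ϕ) {c : ℂ}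
    (h : ∀ x, φ (ι x) = c * ϕ x) : ∃ f : ℕ, ∀ x, ζ (ι x) = (f : ℂ) * ϕ x := by
  classical
  have hζr := Chars.isCharacter_comp ι (Chars.isCharacter_of_irr hζ)
  obtain ⟨f, hf⟩ := Chars.inner_char_nat hζr (Chars.isCharacter_of_irr hϕ)
  refine ⟨f, fun x => congrFun (?_ : (fun x => ζ (ι x)) = (f : ℂ) • ϕ) x⟩
  refine Chars.ext_inner_irr (Chars.isClassFunction_of_isCharacter hζr)
    (Chars.isClassFunction_smul _ (Chars.isClassFunction_of_isCharacter
      (Chars.isCharacter_of_irr hϕ))) fun θ => ?_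
  rw [Chars.inner_smul_left, Chars.inner_irr_of_isIrr hϕ θ.2]
  split_ifs with he
  · rw [mul_one, ← he, hf]
  · rw [mul_zero]
    refine inner_mono hφ hζ hne ι (Chars.isCharacter_of_irr θ.2) ?_
    rw [show (fun x => φ (ι x)) = c • ϕ from funext h, Chars.inner_smul_left,
      Chars.inner_irr_of_isIrr hϕ θ.2, if_neg he, mul_zero]

/-- Degrees and multiplicities. -/
theorem mult_deg {φ ζ : Γ → ℂ} (hφ : IsCharacter Γ φ) (hζ : IsIrrCharacter Γ ζ) {m a b : ℕ}
    (hm : classInner φ ζ = m) (ha : φ 1 = a) (hb : ζ 1 = b) :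
    m * b ≤ a ∧ (m * b = a → φ = (m : ℂ) • ζ) := by
  have hr := char_sub hφ hζ hm le_rfl
  obtain ⟨r, hr1⟩ := Chars.character_degree_nat hr
  have h1 : a = m * b + r := by
    have : (φ - (m : ℂ) • ζ) 1 = r := hr1
    simp only [Pi.sub_apply, Pi.smul_apply, smul_eq_mul, ha, hb, sub_eq_iff_eq_add] at this
    have h2 : (a : ℂ) = ((m * b + r : ℕ) : ℂ) := by rw [this]; push_cast; ring
    exact_mod_cast h2
  refine ⟨by omega, fun he => funext fun g => ?_⟩
  have hn := Chars.char_norm_le hr g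
  rw [hr1, show r = 0 by omega, Nat.cast_zero, Complex.zero_re, norm_le_zero_iff, Pi.sub_apply,
    sub_eq_zero] at hn
  exact hn

/-- Proportional irreducible characters are equal. -/
theorem eq_of_prop {ϕ ϕ' : Γ → ℂ} (hϕ : IsIrrCharacter Γ ϕ) (hϕ' : IsIrrCharacter Γ ϕ') {c c' : ℂ}
    (hc : c ≠ 0) (h : ∀ x, c * ϕ x = c' * ϕ' x) : ϕ = ϕ' := by
  classical
  by_contra hne
  have h1 : classInner (c • ϕ) ϕ = classInner (c' • ϕ') ϕ :=
    congrArg (fun f => classInner f ϕ) (funext h)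
  rw [Chars.inner_smul_left, Chars.inner_smul_left, Chars.inner_irr_of_isIrr hϕ hϕ,
    Chars.inner_irr_of_isIrr hϕ' hϕ, if_pos rfl, if_neg (Ne.symm hne), mul_one, mul_zero] at h1
  exact hc h1

end Generic

variable {G : Type u} [Group G] [Fintype G]

/-- Restrictions to normal subgroups are homogeneous. -/
def QP (χ : G → ℂ) : Prop :=
  ∀ (N : Subgroup G), N.Normal → ∃ (ϑ : N → ℂ) (e : ℕ), IsIrrCharacter N ϑ ∧
    (fun n : N => χ n) = (e : ℂ) • ϑ

theorem QP.data {χ : G → ℂ} (hqp : QP χ) (hχ : IsIrrCharacter G χ) (N : Subgroup G) [hN : N.Normal] :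
    ∃ (ϑ : N → ℂ) (e : ℂ), e ≠ 0 ∧ IsIrrCharacter N ϑ ∧ (∀ n : N, χ n = e * ϑ n) ∧
      ∀ (g : G) (n : N), ϑ ⟨g * n * g⁻¹, hN.conj_mem (n : G) n.2 g⟩ = ϑ n := by
  obtain ⟨ϑ, e, hϑ, he⟩ := hqp N hN
  have he0 : (e : ℂ) ≠ 0 := fun h => Chars.irr_degree_ne_zero hχ (by
    have := congrFun he 1
    simp only [Pi.smul_apply, h, zero_smul] at this
    simpa using this)
  refine ⟨ϑ, e, he0, hϑ, fun n => congrFun he n, fun g n => mul_left_cancel₀ he0 ?_⟩
  have h1 : ∀ n : N, χ n = (e : ℂ) * ϑ n := fun n => congrFun he n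
  rw [← h1, ← h1]
  exact Chars.isClassFunction_of_isCharacter (Chars.isCharacter_of_irr hχ) (n : G) g

/-- The ramification along a chief series. -/
theorem chain_degree [Group.IsSolvable G] {χ : G → ℂ} (hχ : IsIrrCharacter G χ) (hqp : QP χ)
    {M : Subgroup G} [hM : M.Normal] {θ : M → ℂ} (hθ : IsIrrCharacter M θ) {e : ℂ} (he : e ≠ 0)
    (hθe : ∀ m : M, χ m = e * θ m) :
    ∀ (n : ℕ) (N : Subgroup G), N.Normal → Nat.card N ≤ n → M ≤ N → ∀ (η : N → ℂ) (c : ℂ),
      IsIrrCharacter N η → c ≠ 0 → (∀ x : N, χ x = c * η x) →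
      ∃ k : ℕ, k ^ 2 ∣ M.relIndex N ∧ η 1 = (k : ℂ) * θ 1 := by
  intro n
  induction n with
  | zero =>
    intro N _ h
    exact absurd h (Nat.not_le.2 Nat.card_pos)
  | succ n ih =>
    intro N hN hcard hMN η c hη hc hηc
    classical
    rcases eq_or_ne M N with rfl | hne
    · have : θ = η := eq_of_prop hθ hη he fun x => by rw [← hθe, hηc]
      exact ⟨1, by simp, by rw [this, Nat.cast_one, one_mul]⟩
    obtain ⟨R, -, hRmax⟩ := Finite.exists_le_maximal
      (p := fun R : Subgroup G => R.Normal ∧ M ≤ R ∧ R < N) (a := M)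
      ⟨hM, le_rfl, lt_of_le_of_ne hMN hne⟩
    obtain ⟨⟨hRn, hMR, hRN⟩, hmax⟩ := hRmax
    haveI := hN
    haveI := hRn
    have hchief : ∀ T : Subgroup G, T.Normal → R ≤ T → T ≤ N → T = R ∨ T = N := fun T hT h1 h2 => by
      rcases h2.lt_or_eq with h | h
      · exact Or.inl (le_antisymm (hmax ⟨hT, hMR.trans h1, h⟩ h1) h1)
      · exact Or.inr h
    have hab : ⁅N, N⁆ ≤ R := by
      rcases hchief (R ⊔ ⁅N, N⁆) inferInstance le_sup_left
        (sup_le hRN.le (Subgroup.commutator_le_self N)) with h | h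
      · exact le_sup_right.trans h.le
      · exfalso
        have h1 : N.map (QuotientGroup.mk' R) ≠ ⊥ := fun h0 => by
          rw [Subgroup.map_eq_bot_iff, QuotientGroup.ker_mk'] at h0
          exact hRN.not_ge h0
        refine (CfsgLib.Base.commutator_self_lt_of_isSolvable h1 inferInstance).ne ?_
        conv_rhs => rw [← h, Subgroup.map_sup, QuotientGroup.map_mk'_self, bot_sup_eq]
        rw [Subgroup.map_commutator]
    obtain ⟨θR, eR, heR, hθR, hθRe, -⟩ := hqp.data hχ R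
    have hlt : Nat.card R < Nat.card N := lt_of_not_ge fun h =>
      hRN.ne (Subgroup.eq_of_le_of_card_ge hRN.le h)
    obtain ⟨k, hk, hkdeg⟩ := ih R hRn (by omega) hMR θR eR hθR heR hθRe
    letI : Fintype N := Fintype.ofFinite N
    letI : Fintype (R.subgroupOf N) := Fintype.ofFinite _
    have hinv : ∀ (g : G) (x : N), η ⟨g * x * g⁻¹, hN.conj_mem (x : G) x.2 g⟩ = η x := fun g x =>
      mul_left_cancel₀ hc (by
        rw [← hηc, ← hηc]
        exact Chars.isClassFunction_of_isCharacter (Chars.isCharacter_of_irr hχ) (x : G) g)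
    obtain ⟨φ, hφ, hcases⟩ := going_down hRN.le hchief hab hη hinv
    have hθR' := isIrr_pullFn R hRN.le hθR
    have hrel : ∀ x : R.subgroupOf N, c * η x = eR * pullFn R N θR x := fun x => by
      rw [← hηc (x : N)]
      exact hθRe ⟨((x : N) : G), x.2⟩
    have hone : pullFn R N θR 1 = θR 1 := rfl
    have hmul : M.relIndex R * R.relIndex N = M.relIndex N :=
      Subgroup.relIndex_mul_relIndex M R N hMR hRN.le
    rcases hcases with h | ⟨ε, h, hε⟩ | ⟨horb, h⟩
    · have hφe : φ = pullFn R N θR := eq_of_prop hφ hθR' hc fun x => by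
        rw [← congrFun h x]; exact hrel x
      refine ⟨k, hk.trans (hmul ▸ dvd_mul_right _ _), ?_⟩
      have h1 := congrFun h 1
      rw [hφe, hone, hkdeg] at h1
      exact h1
    · have hε0 : (ε : ℂ) ≠ 0 := Nat.cast_ne_zero.2 fun h0 => by
        rw [h0, zero_pow two_ne_zero] at hε
        exact Subgroup.index_ne_zero_of_finite hε.symm
      have hφe : φ = pullFn R N θR := eq_of_prop hφ hθR' (mul_ne_zero hc hε0) fun x => by
        rw [← hrel x, congrFun h x, Pi.smul_apply, smul_eq_mul, mul_assoc]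
      refine ⟨k * ε, ?_, ?_⟩
      · rw [mul_pow, hε, ← hmul]
        exact Nat.mul_dvd_mul hk dvd_rfl
      · have h1 := congrFun h 1
        rw [hφe, Pi.smul_apply, smul_eq_mul, hone, hkdeg] at h1
        rw [Nat.cast_mul]
        rw [show η 1 = (ε : ℂ) * ((k : ℂ) * θ 1) from h1]
        ring
    · exfalso
      have hall : ∀ ψ ∈ orbitFn (R.subgroupOf N) φ, ψ = pullFn R N θR := by
        intro ψ hψ
        by_contra hne
        have h1 : classInner (c • fun x : R.subgroupOf N => η x) ψ =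
            classInner (eR • pullFn R N θR) ψ := congrArg (fun f => classInner f ψ) (funext hrel)
        have hψi := orbitFn_irr _ hφ hψ
        rw [h, Chars.inner_smul_left, Chars.inner_smul_left, Chars.inner_sum_left,
          Finset.sum_congr rfl fun ψ' hψ' =>
            Chars.inner_irr_of_isIrr (orbitFn_irr _ hφ hψ') hψi,
          Finset.sum_ite_eq' _ _ _, if_pos hψ, Chars.inner_irr_of_isIrr hθR' hψi,
          if_neg (Ne.symm hne), mul_one, mul_zero] at h1
        exact hc h1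
      have hle : (orbitFn (R.subgroupOf N) φ).card ≤ 1 := Finset.card_le_one.2 fun a ha b hb =>
        (hall a ha).trans (hall b hb).symm
      rw [horb] at hle
      have hne0 : R.relIndex N ≠ 0 := Subgroup.index_ne_zero_of_finite
      exact hRN.not_ge (Subgroup.relIndex_eq_one.1 (by omega))

/-- The index of the intersection with a supplemented normal subgroup. -/
theorem index_subgroupOf_eq (N K : Subgroup G) [N.Normal] (h : N ⊔ K = ⊤) :
    (K.subgroupOf N).index = K.index ∧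
      Nat.card (K.subgroupOf N) * N.index = Nat.card K := by
  have h1 : N.relIndex K = N.index := by
    rw [← Subgroup.relIndex_sup_right K N, sup_comm, h, Subgroup.relIndex_top_right]
  have h2 : ∀ A B : Subgroup G, Nat.card (B.subgroupOf A) = Nat.card (A ⊓ B : Subgroup G) :=
    fun A B => by
      rw [← Subgroup.inf_subgroupOf_left]
      exact Nat.card_congr (Subgroup.subgroupOfEquivOfLe inf_le_left).toEquiv
  have h3 : Nat.card (K.subgroupOf N) * N.index = Nat.card K := by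
    rw [h2, inf_comm, ← h2 K N, ← h1]
    exact (N.subgroupOf K).card_mul_index
  refine ⟨Nat.eq_of_mul_eq_mul_left (Nat.card_pos (α := K.subgroupOf N)) ?_, h3⟩
  have h4 := (K.subgroupOf N).card_mul_index
  have h5 : Nat.card N * N.index = Nat.card K * K.index := by
    rw [N.card_mul_index, K.card_mul_index]
  rw [h4]
  refine Nat.eq_of_mul_eq_mul_right (Nat.pos_of_ne_zero (Subgroup.index_ne_zero_of_finite (H := N))) ?_
  rw [h5, ← h3]
  ring

/-- Restriction of an induced function to a supplementing normal subgroup. -/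
theorem indFun_restrict_supplement (N K : Subgroup G) [N.Normal] (h : N ⊔ K = ⊤) [Fintype N]
    {ψ : K → ℂ} (hψ : IsClassFunction K ψ) (n : N) :
    indFun K ψ n = indFun (K.subgroupOf N)
      (fun x => ψ ⟨((x : N) : G), x.2⟩) n := by
  classical
  set F : G → ℂ := fun g => extendByZero K ψ (g⁻¹ * (n : G) * g) with hF
  have hinvK : ∀ (g : G) (k : G), k ∈ K → F (g * k) = F g := by
    intro g k hk
    simp only [hF]
    rw [show (g * k)⁻¹ * (n : G) * (g * k) = k⁻¹ * (g⁻¹ * (n : G) * g) * k by group]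
    by_cases hy : g⁻¹ * (n : G) * g ∈ K
    · rw [Chars.extendByZero_of_mem _ _ hy, Chars.extendByZero_of_mem _ _
        (K.mul_mem (K.mul_mem (K.inv_mem hk) hy) hk)]
      have := hψ ⟨_, hy⟩ ⟨k⁻¹, K.inv_mem hk⟩
      refine Eq.trans (congrArg ψ (Subtype.ext ?_)) this
      simp
    · rw [Chars.extendByZero_of_not_mem _ _ hy, Chars.extendByZero_of_not_mem]
      intro h'
      apply hy
      have := K.mul_mem (K.mul_mem hk h') (K.inv_mem hk)
      simpa [mul_assoc] using this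
  have hsum : (Nat.card N : ℂ) * ∑ g : G, F g = (Nat.card G : ℂ) * ∑ m : N, F m := by
    have h1 : ∀ m : N, ∑ g : G, F ((m : G) * g) = ∑ g : G, F g := fun m =>
      Fintype.sum_equiv (Equiv.mulLeft (m : G)) _ _ fun _ => rfl
    have h2 : ∀ g : G, ∑ m : N, F ((m : G) * g) = ∑ m : N, F m := by
      intro g
      have hg : g ∈ ((N ⊔ K : Subgroup G) : Set G) := by rw [h]; trivial
      rw [Subgroup.normal_mul N K] at hg
      obtain ⟨a, ha, k, hk, rfl⟩ := hg
      simp only [← mul_assoc, hinvK _ k hk]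
      exact Fintype.sum_equiv (Equiv.mulRight (⟨a, ha⟩ : N)) _ _ fun _ => rfl
    calc (Nat.card N : ℂ) * ∑ g : G, F g = ∑ m : N, ∑ g : G, F ((m : G) * g) := by
          rw [Finset.sum_congr rfl fun m _ => h1 m, Finset.sum_const, Finset.card_univ,
            nsmul_eq_mul, Nat.card_eq_fintype_card]
      _ = ∑ g : G, ∑ m : N, F ((m : G) * g) := Finset.sum_comm
      _ = (Nat.card G : ℂ) * ∑ m : N, F m := by
          rw [Finset.sum_congr rfl fun g _ => h2 g, Finset.sum_const, Finset.card_univ,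
            nsmul_eq_mul, Nat.card_eq_fintype_card]
  have hext : ∀ m : N, extendByZero (K.subgroupOf N) (fun x => ψ ⟨((x : N) : G), x.2⟩)
      (m⁻¹ * n * m) = F m := by
    intro m
    simp only [hF]
    by_cases hy : ((m⁻¹ * n * m : N) : G) ∈ K
    · rw [Chars.extendByZero_of_mem _ _ (Subgroup.mem_subgroupOf.2 hy)]
      have hy' : (m : G)⁻¹ * (n : G) * (m : G) ∈ K := by simpa using hy
      rw [Chars.extendByZero_of_mem _ _ hy']
      rfl
    · rw [Chars.extendByZero_of_not_mem _ _ (fun h' => hy (Subgroup.mem_subgroupOf.1 h')),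
        Chars.extendByZero_of_not_mem]
      simpa using hy
  rw [Chars.indFun_apply, Chars.indFun_apply, Finset.sum_congr rfl fun m _ => hext m]
  obtain ⟨-, hK⟩ := index_subgroupOf_eq N K h
  have hG : (Nat.card N : ℂ) * (N.index : ℂ) = Nat.card G := by
    exact_mod_cast N.card_mul_index
  have hKc : (Nat.card (K.subgroupOf N) : ℂ) * (N.index : ℂ) = Nat.card K := by exact_mod_cast hK
  have hN0 : (Nat.card N : ℂ) ≠ 0 := Nat.cast_ne_zero.2 Nat.card_pos.ne'
  have hi0 : (N.index : ℂ) ≠ 0 := Nat.cast_ne_zero.2 Subgroup.index_ne_zero_of_finite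
  rw [← hG, mul_assoc] at hsum
  rw [mul_left_cancel₀ hN0 hsum, ← hKc, mul_inv, mul_assoc, inv_mul_cancel_left₀ hi0]

/-- The configuration above the core of a maximal subgroup. -/
structure Ctx (χ : G → ℂ) (K L M : Subgroup G) (ψ : K → ℂ) (p : ℕ) : Prop where
  irr : IsIrrCharacter G χ
  qp : QP χ
  psi : IsIrrCharacter K ψ
  ind : indFun K ψ = χ
  Lnormal : L.Normal
  Mnormal : M.Normal
  prime : p.Prime
  hLK : L ≤ K
  hLM : L ≤ M
  inter : M ⊓ K = L
  sup : M ⊔ K = ⊤
  card : L.relIndex M = K.index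
  ppow : ∃ n, K.index = p ^ n
  faith : ∀ x ∈ K, (∀ m ∈ M, m * x * m⁻¹ * x⁻¹ ∈ L) → x ∈ L

variable {χ : G → ℂ} {K L M : Subgroup G} {ψ : K → ℂ} {p : ℕ}

/-- The inducing character occurs in the restriction. -/
theorem Ctx.inner_eq (h : Ctx χ K L M ψ p) [Fintype K] :
    classInner (fun k : K => χ k) ψ = 1 := by
  have hc := Chars.isClassFunction_of_isCharacter (Chars.isCharacter_of_irr h.irr)
  rw [← Chars.inner_indFun_right K ψ hc, h.ind]
  exact (Chars.isIrrCharacter_iff_inner_self.1 h.irr).2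

/-- Constituents on a normal `p'`-layer of the complement vanish off the core. -/
theorem Ctx.vanish [Group.IsSolvable G] (h : Ctx χ K L M ψ p) (N : Subgroup G) [hN : N.Normal]
    [Fintype N] [Fintype (K.subgroupOf N)] (hMN : M ≤ N) (hp : ¬ p ∣ M.relIndex N)
    {ζ : K.subgroupOf N → ℂ} (hζ : IsIrrCharacter (K.subgroupOf N) ζ)
    (hne : classInner (fun x : K.subgroupOf N => ψ ⟨((x : N) : G), x.2⟩) ζ ≠ 0)
    (x : K.subgroupOf N) (hx : ((x : N) : G) ∉ L) : ζ x = 0 := by
  classical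
  have := h.Lnormal
  have := h.Mnormal
  letI : Fintype K := Fintype.ofFinite K
  letI : Fintype L := Fintype.ofFinite L
  have hLN : L ≤ N := h.hLM.trans hMN
  have hsup : N ⊔ K = ⊤ := top_le_iff.1 (h.sup.ge.trans (sup_le_sup_right hMN K))
  have hψc := Chars.isCharacter_of_irr h.psi
  have hχc := Chars.isCharacter_of_irr h.irr
  have hζc := Chars.isCharacter_of_irr hζ
  let jX : (K.subgroupOf N) →* K :=
    { toFun := fun y => ⟨((y : N) : G), y.2⟩, map_one' := rfl, map_mul' := fun _ _ => rfl }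
  let ψ0 : (K.subgroupOf N) → ℂ := fun y => ψ (jX y)
  have hψ0c : IsCharacter (K.subgroupOf N) ψ0 := Chars.isCharacter_comp jX hψc
  obtain ⟨η, eη, heη, hη, hηe, -⟩ := h.qp.data h.irr N
  obtain ⟨θ, eθ, heθ, hθ, hθe, -⟩ := h.qp.data h.irr M
  obtain ⟨ϕ, eϕ, heϕ, hϕ, hϕe, -⟩ := h.qp.data h.irr L
  have hηc := Chars.isCharacter_of_irr hη
  obtain ⟨k, hk, hkdeg⟩ := chain_degree h.irr h.qp hθ heθ hθe _ N hN le_rfl hMN η eη hη heη hηe
  obtain ⟨t, ht, htdeg⟩ := chain_degree h.irr h.qp hϕ heϕ hϕe _ M h.Mnormal le_rfl h.hLM θ eθ hθ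
    heθ hθe
  rw [h.card] at ht
  -- induction to N gives a multiple of η
  have hind : ∀ y : N, indFun (K.subgroupOf N) ψ0 y = eη * η y := fun y => by
    refine (indFun_restrict_supplement N K hsup (Chars.isClassFunction_of_isCharacter hψc) y).symm.trans ?_
    rw [h.ind, hηe]
  obtain ⟨j, hj⟩ := Chars.inner_char_nat (Chars.isCharacter_indFun (K.subgroupOf N) hζc) hηc
  have hζN : indFun (K.subgroupOf N) ζ = (j : ℂ) • η := by
    refine Chars.ext_inner_irr (Chars.isClassFunction_indFun (K.subgroupOf N) ζ)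
      (Chars.isClassFunction_smul _ (Chars.isClassFunction_of_isCharacter hηc)) fun η' => ?_
    rw [Chars.inner_smul_left, Chars.inner_irr_of_isIrr hη η'.2]
    split_ifs with he
    · rw [mul_one, ← he, hj]
    · rw [mul_zero, Chars.inner_indFun (K.subgroupOf N) ζ (Chars.isClassFunction_irr η')]
      have h0 : classInner ψ0 (fun y : (K.subgroupOf N) => (η' : N → ℂ) y) = 0 := by
        rw [← Chars.inner_indFun (K.subgroupOf N) ψ0 (Chars.isClassFunction_irr η'),
          show indFun (K.subgroupOf N) ψ0 = eη • η from funext hind, Chars.inner_smul_left,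
          Chars.inner_irr_of_isIrr hη η'.2, if_neg he, mul_zero]
      have hη'c := Chars.isCharacter_restrict (K.subgroupOf N) (Chars.isCharacter_of_irr η'.2)
      exact inner_mono hψ0c hζ hne (MonoidHom.id (K.subgroupOf N)) hη'c h0
  have hjX : classInner (fun y : (K.subgroupOf N) => η y) ζ = j := by
    rw [← Chars.inner_indFun_right (K.subgroupOf N) ζ (Chars.isClassFunction_of_isCharacter hηc), ← Chars.inner_conj,
      hj, map_natCast]
  -- restriction to L
  let ιK : L →* K := Subgroup.inclusion h.hLK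
  obtain ⟨f, hf⟩ := mult_of_homog (φ := fun y : K => χ y) (Chars.isCharacter_restrict K hχc) h.psi
    (by rw [h.inner_eq]; exact one_ne_zero) ιK hϕ (fun l => hϕe l)
  let ιX : L →* (K.subgroupOf N) :=
    { toFun := fun l => ⟨⟨l, hLN l.2⟩, h.hLK l.2⟩, map_one' := rfl, map_mul' := fun _ _ => rfl }
  obtain ⟨f₁, hf₁⟩ := mult_of_homog hψ0c hζ hne ιX hϕ (fun l => hf l)
  -- degrees
  obtain ⟨d, hd0, hd⟩ := Chars.irr_degree_nat hϕ
  have hζ1 : ζ 1 = ((f₁ * d : ℕ) : ℂ) := by
    have := hf₁ 1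
    rw [map_one, hd] at this
    rw [this, Nat.cast_mul]
  have hη1 : η 1 = ((k * (t * d) : ℕ) : ℂ) := by
    rw [hkdeg, htdeg, hd]; push_cast; rfl
  have hidx : (K.subgroupOf N).index = K.index := (index_subgroupOf_eq N K hsup).1
  have heq : K.index * (f₁ * d) = j * (k * (t * d)) := by
    have h1 := Chars.indFun_one_apply (K.subgroupOf N) ζ
    rw [hζN, Pi.smul_apply, smul_eq_mul, hη1, hidx, hζ1] at h1
    exact_mod_cast h1.symm
  have hd1 : 0 < d := Nat.pos_of_ne_zero fun e => Chars.irr_degree_ne_zero hϕ (by rw [hd, e, Nat.cast_zero])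
  have heq' : K.index * f₁ = j * (k * t) := by
    have : K.index * f₁ * d = j * (k * t) * d := by rw [mul_assoc, heq]; ring
    exact Nat.eq_of_mul_eq_mul_right hd1 this
  obtain ⟨hle, hfull⟩ := mult_deg (Chars.isCharacter_restrict (K.subgroupOf N) hηc) hζ hjX (a := k * (t * d))
    (b := f₁ * d) (by simpa using hη1) hζ1
  have hle' : j * f₁ ≤ k * t := by
    have : j * f₁ * d ≤ k * t * d := by rw [mul_assoc, mul_assoc]; exact hle
    exact Nat.le_of_mul_le_mul_right this hd1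
  obtain ⟨n, hn⟩ := h.ppow
  have hcop : Nat.Coprime k K.index := by
    rw [hn]
    refine Nat.Coprime.pow_right n ((h.prime.coprime_iff_not_dvd).2 fun hd => hp ?_).symm
    exact hd.trans ((dvd_pow_self k two_ne_zero).trans hk)
  have hkf : k ∣ f₁ := hcop.dvd_of_dvd_mul_left ⟨j * t, by rw [heq']; ring⟩
  obtain ⟨a, rfl⟩ := hkf
  have hP0 : 0 < K.index := Nat.pos_of_ne_zero Subgroup.index_ne_zero_of_finite
  have hk0 : 0 < k := Nat.pos_of_ne_zero fun e => Chars.irr_degree_ne_zero hη (by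
    rw [hη1, e, zero_mul, Nat.cast_zero])
  have ha0 : 0 < a := Nat.pos_of_ne_zero fun e => Chars.irr_degree_ne_zero hζ (by
    rw [hζ1, e, mul_zero, zero_mul, Nat.cast_zero])
  have heq'' : K.index * a = j * t :=
    Nat.eq_of_mul_eq_mul_left hk0 (by linear_combination heq')
  have hja : j * a ≤ t := Nat.le_of_mul_le_mul_left
    (by calc k * (j * a) = j * (k * a) := by ring
          _ ≤ k * t := hle') hk0
  have ht2 : t ^ 2 ≤ K.index := Nat.le_of_dvd hP0 ht
  have h1 : K.index * (a * a) ≤ t ^ 2 := by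
    calc K.index * (a * a) = (j * t) * a := by rw [← heq'']; ring
      _ = (j * a) * t := by ring
      _ ≤ t * t := Nat.mul_le_mul_right t hja
      _ = t ^ 2 := by ring
  have ha1 : a = 1 := by
    have : K.index * (a * a) ≤ K.index * 1 := by rw [mul_one]; exact h1.trans ht2
    have := Nat.le_of_mul_le_mul_left this hP0
    nlinarith
  subst ha1
  have hPt : K.index = t ^ 2 := le_antisymm (by simpa using h1) ht2
  have ht0 : 0 < t := Nat.pos_of_ne_zero fun e => by
    rw [e, zero_pow two_ne_zero] at hPt; omega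
  have hjt : j = t := Nat.eq_of_mul_eq_mul_right ht0 (by rw [← heq'', hPt]; ring)
  subst hjt
  have hres : (fun y : (K.subgroupOf N) => η y) = (j : ℂ) • ζ := hfull (by ring)
  -- η vanishes outside (K.subgroupOf N)
  have hout : ∀ y : N, y ∉ (K.subgroupOf N) → η y = 0 := by
    have hN1 : ∑ y : N, η y * conj (η y) = (Nat.card N : ℂ) := by
      have h1 := (Chars.isIrrCharacter_iff_inner_self.1 hη).2
      rw [Chars.inner_def, inv_mul_eq_one₀ (Nat.cast_ne_zero.2 Nat.card_pos.ne')] at h1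
      exact h1.symm
    have hX1 : ∑ y : (K.subgroupOf N), η y * conj (η y) = (Nat.card N : ℂ) := by
      have h1 := (Chars.isIrrCharacter_iff_inner_self.1 hζ).2
      rw [Chars.inner_def, inv_mul_eq_one₀ (Nat.cast_ne_zero.2 Nat.card_pos.ne')] at h1
      have h2 : ∀ y : (K.subgroupOf N), η y * conj (η y) = ((j ^ 2 : ℕ) : ℂ) * (ζ y * conj (ζ y)) := fun y => by
        rw [show η y = (j : ℂ) * ζ y from congrFun hres y, map_mul, Complex.conj_natCast]
        push_cast; ring
      rw [Finset.sum_congr rfl fun y _ => h2 y, ← Finset.mul_sum, ← h1, ← Nat.cast_mul, ← hPt,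
        ← hidx, mul_comm, (K.subgroupOf N).card_mul_index]
    have hsplit : ∑ y ∈ Finset.univ.filter (fun y : N => y ∉ (K.subgroupOf N)), η y * conj (η y) = 0 := by
      have := Finset.sum_filter_add_sum_filter_not (Finset.univ : Finset N) (· ∈ (K.subgroupOf N))
        (fun y => η y * conj (η y))
      rw [hN1, Finset.sum_subtype (Finset.univ.filter (· ∈ (K.subgroupOf N))) (p := (· ∈ (K.subgroupOf N))) (fun y => by simp),
        hX1] at this
      linear_combination this
    intro y hy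
    simp only [Complex.mul_conj] at hsplit
    have hreal : ∑ y ∈ Finset.univ.filter (fun y : N => y ∉ (K.subgroupOf N)), Complex.normSq (η y) = 0 := by
      exact_mod_cast hsplit
    exact Complex.normSq_eq_zero.1 ((Finset.sum_eq_zero_iff_of_nonneg
      fun z _ => Complex.normSq_nonneg _).1 hreal y (by simpa using hy))
  by_contra hzx
  have hηx : η (x : N) ≠ 0 := by
    rw [show η (x : N) = (j : ℂ) * ζ x from congrFun hres x]
    exact mul_ne_zero (Nat.cast_ne_zero.2 ht0.ne') hzx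
  refine hx (h.faith _ x.2 fun m hm => ?_)
  have hcl := Chars.isClassFunction_of_isCharacter hηc (x : N) ⟨m, hMN hm⟩
  have hmem : m * ((x : N) : G) * m⁻¹ ∈ K := by
    by_contra hnot
    refine hηx ?_
    rw [← hcl]
    exact hout _ fun h' => hnot (by simpa using Subgroup.mem_subgroupOf.1 h')
  rw [← h.inter]
  refine ⟨?_, K.mul_mem hmem (K.inv_mem x.2)⟩
  rw [show m * ((x : N) : G) * m⁻¹ * ((x : N) : G)⁻¹ =
    m * (((x : N) : G) * m⁻¹ * ((x : N) : G)⁻¹) by group]
  exact M.mul_mem hm (h.Mnormal.conj_mem _ (M.inv_mem hm) _)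

/-- A subgroup normalised by a complement spans a normal subgroup with the abelian kernel. -/
theorem normal_sup_of_inv {Γ : Type*} [Group Γ] [Finite Γ] {A H Y : Subgroup Γ} [hA : A.Normal]
    (hsup : A ⊔ H = ⊤) (hY : Inv H Y) : (A ⊔ Y).Normal := by
  rw [← Subgroup.normalizer_eq_top_iff, eq_top_iff, ← hsup]
  refine sup_le (le_sup_left.trans Subgroup.le_normalizer) fun h hh => ?_
  have key : ∀ h ∈ H, ∀ y ∈ A ⊔ Y, h * y * h⁻¹ ∈ A ⊔ Y := fun h hh y hy => by
    have := Subgroup.mem_map_of_mem (MulAut.conj h).toMonoidHom hy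
    have hAi : Inv H A := fun g _ a ha => hA.conj_mem a ha g
    rwa [Subgroup.map_sup, hY.map_eq hh, hAi.map_eq hh] at this
  refine Subgroup.mem_normalizer_iff.2 fun y => ⟨key h hh y, fun hy => ?_⟩
  simpa [mul_assoc] using key h⁻¹ (H.inv_mem hh) _ hy

/-- In the quotient by the core, normal class-two `p'`-subgroups of the complement are abelian. -/
theorem Ctx.class_two_abelian [Group.IsSolvable G] (h : Ctx χ K L M ψ p) [hLn : L.Normal]
    (Y : Subgroup (G ⧸ L)) (hYH : Y ≤ K.map (QuotientGroup.mk' L))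
    (hYi : Inv (K.map (QuotientGroup.mk' L)) Y) (hYp : ¬ p ∣ Nat.card Y)
    (hcen : ∀ a ∈ Y, ∀ b ∈ Y, ∀ d ∈ Y, Commute (a * b * a⁻¹ * b⁻¹) d) :
    ∀ a ∈ Y, ∀ b ∈ Y, a * b = b * a := by
  classical
  have := h.Mnormal
  set q := QuotientGroup.mk' L with hq
  have hqs : Function.Surjective q := QuotientGroup.mk'_surjective L
  have hker : q.ker = L := QuotientGroup.ker_mk' L
  set A := M.map q with hA
  set H := K.map q with hH
  haveI hAn : A.Normal := Subgroup.Normal.map h.Mnormal _ hqs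
  have hAH : A ⊔ H = ⊤ := by
    rw [hA, hH, ← Subgroup.map_sup, h.sup, Subgroup.map_top_of_surjective q hqs]
  have hAcomap : A.comap q = M := by
    rw [hA, Subgroup.comap_map_eq, hker, sup_eq_left.2 h.hLM]
  have hHcomap : H.comap q = K := by
    rw [hH, Subgroup.comap_map_eq, hker, sup_eq_left.2 h.hLK]
  have hinter : A ⊓ H = ⊥ := by
    refine Subgroup.comap_injective hqs ?_
    rw [Subgroup.comap_inf, hAcomap, hHcomap, h.inter, MonoidHom.comap_bot, hker]
  intro a ha b hb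
  by_contra hne
  set c₀ := a * b * a⁻¹ * b⁻¹ with hc₀
  have hc₀1 : c₀ ≠ 1 := fun e => hne (by rwa [mul_inv_eq_one, mul_inv_eq_iff_eq_mul] at e)
  set Y₁ := ⁅Y, Y⁆ with hY₁
  have hY₁Y : Y₁ ≤ Y := Subgroup.commutator_le_self Y
  have hc₀Y : c₀ ∈ Y₁ := by
    rw [hc₀, ← commutatorElement_def]; exact Subgroup.commutator_mem_commutator ha hb
  have hY₁i : Inv H Y₁ := fun g hg y hy => by
    have := Subgroup.mem_map_of_mem (MulAut.conj g).toMonoidHom hy
    rw [hY₁, Subgroup.map_commutator, hYi.map_eq hg] at this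
    exact this
  have hY₁p : ¬ p ∣ Nat.card Y₁ := fun hd => hYp (hd.trans (Subgroup.card_dvd_of_le hY₁Y))
  haveI := normal_sup_of_inv hAH hY₁i
  set N := (A ⊔ Y₁).comap q with hN
  haveI hNn : N.Normal := Subgroup.Normal.comap inferInstance q
  have hMN : M ≤ N := hAcomap ▸ Subgroup.comap_mono le_sup_left
  have hAY : A ⊓ Y₁ = ⊥ := le_bot_iff.1 (hinter ▸ inf_le_inf_left A (hY₁Y.trans hYH))
  have hNp : ¬ p ∣ M.relIndex N := by
    rw [← hAcomap, hN, Subgroup.relIndex_comap, Subgroup.map_comap_eq_self_of_surjective hqs,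
      sup_comm, Subgroup.relIndex_sup_right, ← Subgroup.inf_relIndex_right, hAY,
      Subgroup.relIndex_bot_left]
    exact hY₁p
  have hNK : ∀ z : G, z ∈ K → (z ∈ N ↔ q z ∈ Y₁) := fun z hz => by
    refine ⟨fun hzN => ?_, fun hzY => Subgroup.mem_comap.2 (Subgroup.mem_sup_right hzY)⟩
    have h1 : q z ∈ ((A ⊔ Y₁ : Subgroup (G ⧸ L)) : Set (G ⧸ L)) := hzN
    rw [Subgroup.normal_mul A Y₁] at h1
    obtain ⟨x, hx, y, hy, hxy⟩ := h1
    have hxH : x ∈ H := by
      rw [show x = q z * y⁻¹ from eq_mul_inv_of_mul_eq hxy]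
      exact H.mul_mem (Subgroup.mem_map_of_mem q hz) (H.inv_mem (hYH (hY₁Y hy)))
    have hx1 : x = 1 := Subgroup.mem_bot.1 (hinter ▸ ⟨hx, hxH⟩)
    rw [← hxy, hx1]
    simpa using hy
  -- the preimage of Y
  set X := Y.comap q with hX
  have hXK : X ≤ K := hHcomap ▸ Subgroup.comap_mono hYH
  let qX : X →* G ⧸ L := q.comp X.subtype
  have hqXmem : ∀ z : X, qX z ∈ Y := fun z => z.2
  set J := (Subgroup.zpowers c₀).comap qX with hJ
  set Z := Y₁.comap qX with hZ
  haveI hJn : J.Normal := ⟨fun x hx g => by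
    have hx' : qX x ∈ Subgroup.zpowers c₀ := hx
    show qX (g * x * g⁻¹) ∈ Subgroup.zpowers c₀
    obtain ⟨i, hi⟩ := Subgroup.mem_zpowers_iff.1 hx'
    have hc : Commute (qX g) (qX x) :=
      hi ▸ ((hcen a ha b hb (qX g) (hqXmem g)).zpow_left i).symm
    rw [map_mul, map_mul, map_inv, hc.eq, mul_inv_cancel_right]
    exact hx'⟩
  have hJZ : J ≤ Z := Subgroup.comap_mono ((Subgroup.zpowers_le).2 hc₀Y)
  letI : Fintype X := Fintype.ofFinite X
  letI : Fintype J := Fintype.ofFinite J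
  letI : Fintype Z := Fintype.ofFinite Z
  letI : Fintype K := Fintype.ofFinite K
  letI : Fintype N := Fintype.ofFinite N
  letI : Fintype (K.subgroupOf N) := Fintype.ofFinite _
  letI : Fintype L := Fintype.ofFinite L
  set qJ : J →* G ⧸ L := qX.comp J.subtype with hqJ
  letI : Fintype qJ.ker := Fintype.ofFinite _
  have hkerL : ∀ z : qJ.ker, ((((z : J) : X)) : G) ∈ L := fun z =>
    hker.le (MonoidHom.mem_ker.2 (MonoidHom.mem_ker.1 z.2))
  -- the character of L
  obtain ⟨ϕ, eϕ, heϕ, hϕ, hϕe, hϕinv⟩ := h.qp.data h.irr L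
  let toL : qJ.ker →* L :=
    { toFun := fun z => ⟨((z : J) : X), hkerL z⟩, map_one' := rfl, map_mul' := fun _ _ => rfl }
  have htoL : Function.Surjective toL := fun l => by
    have hlX : (l : G) ∈ X := by
      rw [hX, Subgroup.mem_comap, show q (l : G) = 1 from MonoidHom.mem_ker.1 (hker.ge l.2)]
      exact Y.one_mem
    have hlJ : (⟨l, hlX⟩ : X) ∈ J := by
      rw [hJ, Subgroup.mem_comap, show qX ⟨l, hlX⟩ = 1 from MonoidHom.mem_ker.1 (hker.ge l.2)]
      exact Subgroup.one_mem _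
    exact ⟨⟨⟨⟨l, hlX⟩, hlJ⟩, MonoidHom.mem_ker.2 (MonoidHom.mem_ker.1 (hker.ge l.2))⟩, rfl⟩
  set ϕJ : qJ.ker → ℂ := fun z => ϕ (toL z) with hϕJ
  have hϕJi : IsIrrCharacter qJ.ker ϕJ := Chars.isIrrCharacter_comp toL htoL hϕ
  have hconjϕ : ∀ (g : G) (z : qJ.ker) (w : qJ.ker),
      (((w : J) : X) : G) = g * (((z : J) : X) : G) * g⁻¹ → ϕJ w = ϕJ z := fun g z w e => by
    refine Eq.trans (congrArg ϕ (Subtype.ext e)) (hϕinv g (toL z))
  -- characters of Z
  have hψc := Chars.isCharacter_of_irr h.psi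
  let jZ : Z →* K :=
    { toFun := fun z => ⟨((z : X) : G), hXK (z : X).2⟩, map_one' := rfl, map_mul' := fun _ _ => rfl }
  set ψZ : Z → ℂ := fun z => ψ (jZ z) with hψZ
  have hψZc : IsCharacter Z ψZ := Chars.isCharacter_comp jZ hψc
  obtain ⟨ζ, hζ⟩ := Chars.exists_constituent hψZc fun e => Chars.irr_degree_ne_zero h.psi (by
    have := congrFun e 1
    simpa [hψZ] using this)
  -- ζ vanishes off L
  let eZ : Z →* K.subgroupOf N :=
    { toFun := fun z => ⟨⟨((z : X) : G), (hNK _ (hXK (z : X).2)).2 z.2⟩, hXK (z : X).2⟩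
      map_one' := rfl
      map_mul' := fun _ _ => rfl }
  have heZ : Function.Bijective eZ := by
    refine ⟨fun z w e => Subtype.ext (Subtype.ext (congrArg (fun x : K.subgroupOf N => ((x : N) : G)) e :)), fun w => ?_⟩
    have hY' : q ((w : N) : G) ∈ Y₁ := (hNK _ w.2).1 (w : N).2
    exact ⟨⟨⟨((w : N) : G), hY₁Y hY'⟩, hY'⟩, rfl⟩
  let eZ' : Z ≃* K.subgroupOf N := MulEquiv.ofBijective eZ heZ
  set ζ' : K.subgroupOf N → ℂ := fun w => (ζ : Z → ℂ) (eZ'.symm w) with hζ'
  have hζ'i : IsIrrCharacter (K.subgroupOf N) ζ' :=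
    Chars.isIrrCharacter_comp eZ'.symm.toMonoidHom eZ'.symm.surjective ζ.2
  have hζ'eq : ∀ z : Z, ζ' (eZ z) = (ζ : Z → ℂ) z := fun z =>
    congrArg (ζ : Z → ℂ) (eZ'.symm_apply_apply z)
  have hvan : ∀ z : Z, qX z ≠ 1 → (ζ : Z → ℂ) z = 0 := fun z hz => by
    rw [← hζ'eq z]
    refine h.vanish N hMN hNp hζ'i ?_ (eZ z) fun hL => hz (MonoidHom.mem_ker.1 (hker.ge hL))
    have h1 := inner_comp_equiv eZ' (fun x : K.subgroupOf N => ψ ⟨((x : N) : G), x.2⟩) ζ'
    intro h0
    refine hζ ?_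
    rw [← h0, ← h1]
    exact congrArg (classInner ψZ) (funext fun z => (hζ'eq z).symm)
  -- a constituent on J
  let iJ : J →* Z := Subgroup.inclusion hJZ
  have hζJc : IsCharacter J (fun n => (ζ : Z → ℂ) (iJ n)) :=
    Chars.isCharacter_comp iJ (Chars.isCharacter_of_irr ζ.2)
  obtain ⟨α, hα⟩ := Chars.exists_constituent hζJc fun e => Chars.irr_degree_ne_zero ζ.2 (by
    simpa using congrFun e 1)
  obtain ⟨f₁, hf₁⟩ := mult_of_homog (φ := fun y : K => χ y) (Chars.isCharacter_restrict K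
    (Chars.isCharacter_of_irr h.irr)) h.psi (by rw [h.inner_eq]; exact one_ne_zero)
    (Subgroup.inclusion h.hLK) hϕ (fun l => hϕe l)
  obtain ⟨f₂, hf₂⟩ := mult_of_homog hψZc ζ.2 hζ (iJ.comp qJ.ker.subtype) hϕJi
    (fun z => hf₁ (toL z))
  obtain ⟨f₃, hf₃⟩ := mult_of_homog hζJc α.2 hα qJ.ker.subtype hϕJi (fun z => hf₂ z)
  have hf₃0 : (f₃ : ℂ) ≠ 0 := fun e => Chars.irr_degree_ne_zero α.2 (by
    have := hf₃ 1
    rw [e, zero_mul, map_one] at this
    exact this)
  -- extend to J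
  have hinvJ : ∀ (g : J) (z : qJ.ker), ϕJ (conjBy qJ.ker g z) = ϕJ z := fun g z =>
    hconjϕ ((g : X) : G) z _ rfl
  haveI : IsCyclic (J ⧸ qJ.ker) := by
    refine isCyclic_of_injective ((QuotientGroup.kerLift qJ).codRestrict (Subgroup.zpowers c₀)
      fun x => ?_) fun x y e => QuotientGroup.kerLift_injective qJ (congrArg Subtype.val e :)
    induction x using QuotientGroup.induction_on with
    | H x => exact x.2
  obtain ⟨d, ρ, hρirr, hρc, hρinv, -⟩ := exists_invariant_rep qJ.ker hϕJi hinvJ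
  haveI := hρirr
  obtain ⟨R, hR⟩ := repExtends_of_cyclic qJ.ker ρ hρinv
  obtain ⟨-, hα₀, hα₀N⟩ := isIrrExt_of_rep qJ.ker R hR
  rw [hρc] at hα₀N
  haveI := Chars.irrFintype J
  have hϕ1 := (Chars.isIrrCharacter_iff_inner_self.1 hϕJi).2
  have hαres : ∀ n : qJ.ker, (α : J → ℂ) n = ϕJ n := by
    obtain ⟨β, hβ, hαβ⟩ := gallagher_exists qJ.ker hα₀ (by
      rw [show (fun n : qJ.ker => R.character n) = ϕJ from funext hα₀N]; exact hϕJi) α.2 (by
      rw [show (fun n : qJ.ker => R.character n) = ϕJ from funext hα₀N,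
        show (fun n : qJ.ker => (α : J → ℂ) n) = (f₃ : ℂ) • ϕJ from funext hf₃,
        Chars.inner_smul_left, hϕ1, mul_one]
      exact hf₃0)
    have hab : ∀ x y : J, x * y * x⁻¹ * y⁻¹ ∈ qJ.ker := fun x y => by
      rw [MonoidHom.mem_ker, map_mul, map_mul, map_mul, map_inv, map_inv]
      obtain ⟨i, hi⟩ := Subgroup.mem_zpowers_iff.1 (show qJ x ∈ Subgroup.zpowers c₀ from x.2)
      obtain ⟨j, hj⟩ := Subgroup.mem_zpowers_iff.1 (show qJ y ∈ Subgroup.zpowers c₀ from y.2)
      rw [← hi, ← hj, (Commute.zpow_zpow_self c₀ i j).eq]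
      group
    intro n
    have h1 := quotIrr_mul qJ.ker hβ n 1
    rw [mul_one, quotIrr_linear qJ.ker hab hβ] at h1
    rw [hαβ, Pi.mul_apply, h1, one_mul, hα₀N]
  have hαN : IsIrrCharacter qJ.ker (fun n : qJ.ker => (α : J → ℂ) n) := by
    rw [show (fun n : qJ.ker => (α : J → ℂ) n) = ϕJ from funext hαres]; exact hϕJi
  -- conjugation twists by invariant linear characters
  have htw : ∀ g : X, ∃ β ∈ quotIrr qJ.ker,
      conjFn J g (α : J → ℂ) = ((β : IrrCharacter J) : J → ℂ) * (α : J → ℂ) := fun g => by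
    refine gallagher_exists qJ.ker α.2 hαN (isIrr_conjFn J g α.2) ?_
    have hmem : ∀ n : qJ.ker, conjBy J g (n : J) ∈ qJ.ker := fun n => by
      rw [MonoidHom.mem_ker]
      show qX (g * ((n : J) : X) * g⁻¹) = 1
      rw [map_mul, map_mul, map_inv, show qX ((n : J) : X) = 1 from MonoidHom.mem_ker.1 n.2,
        mul_one, mul_inv_cancel]
    have e : ∀ n : qJ.ker, conjFn J g (α : J → ℂ) (n : J) = ϕJ n := fun n =>
      (hαres ⟨_, hmem n⟩).trans (hconjϕ (g : G) n _ rfl)
    rw [show (fun n : qJ.ker => conjFn J g (α : J → ℂ) n) = ϕJ from funext e,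
      show (fun n : qJ.ker => (α : J → ℂ) n) = ϕJ from funext hαres, hϕ1]
    exact one_ne_zero
  have hβinv : ∀ (β : IrrCharacter J), β ∈ quotIrr qJ.ker → ∀ g : X,
      conjFn J g (β : J → ℂ) = (β : J → ℂ) := fun β hβ g => funext fun n => by
    have hmem : conjBy J g n * n⁻¹ ∈ qJ.ker := by
      rw [MonoidHom.mem_ker, map_mul, map_inv, mul_inv_eq_one]
      show qX (g * (n : X) * g⁻¹) = qX (n : X)
      obtain ⟨i, hi⟩ := Subgroup.mem_zpowers_iff.1 (show qX (n : X) ∈ Subgroup.zpowers c₀ from n.2)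
      have hc : Commute (qX g) (qX (n : X)) :=
        hi ▸ ((hcen a ha b hb (qX g) (hqXmem g)).zpow_left i).symm
      rw [map_mul, map_mul, map_inv, hc.eq, mul_inv_cancel_right]
    have h1 := quotIrr_mul qJ.ker hβ ⟨_, hmem⟩ n
    rw [inv_mul_cancel_right] at h1
    exact h1
  have hswap : ∀ g k : X, conjFn J (g * k) (α : J → ℂ) = conjFn J (k * g) (α : J → ℂ) := by
    have key : ∀ g k : X, ∀ β₁ β₂ : IrrCharacter J, β₁ ∈ quotIrr qJ.ker →
        conjFn J g (α : J → ℂ) = (β₁ : J → ℂ) * (α : J → ℂ) →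
        conjFn J k (α : J → ℂ) = (β₂ : J → ℂ) * (α : J → ℂ) →
        conjFn J (g * k) (α : J → ℂ) = (β₁ : J → ℂ) * ((β₂ : J → ℂ) * (α : J → ℂ)) := by
      intro g k β₁ β₂ hβ₁ e₁ e₂
      rw [conjFn_mul, e₁, ← e₂]
      funext n
      show ((β₁ : J → ℂ) * (α : J → ℂ)) (conjBy J k n) = _
      rw [Pi.mul_apply, Pi.mul_apply,
        show (β₁ : J → ℂ) (conjBy J k n) = (β₁ : J → ℂ) n from congrFun (hβinv β₁ hβ₁ k) n]
      rfl
    intro g k
    obtain ⟨β₁, hβ₁, e₁⟩ := htw g
    obtain ⟨β₂, hβ₂, e₂⟩ := htw k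
    rw [key g k β₁ β₂ hβ₁ e₁ e₂, key k g β₂ β₁ hβ₂ e₂ e₁, mul_left_comm]
  have hZI : Z ≤ inertia J (α : J → ℂ) := by
    have hJI : J ≤ inertia J (α : J → ℂ) := le_inertia J (Chars.isClassFunction_irr α)
    have hle : Y₁ ≤ (inertia J (α : J → ℂ)).map qX := by
      rw [hY₁, Subgroup.commutator_le]
      intro y hy y' hy'
      obtain ⟨g, rfl⟩ := hqs y
      obtain ⟨g', rfl⟩ := hqs y'
      refine ⟨⁅(⟨g, hy⟩ : X), (⟨g', hy'⟩ : X)⁆, ?_, by rw [map_commutatorElement]; rfl⟩
      show conjFn J _ (α : J → ℂ) = (α : J → ℂ)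
      rw [show ⁅(⟨g, hy⟩ : X), (⟨g', hy'⟩ : X)⁆ =
          ((⟨g, hy⟩ : X) * ⟨g', hy'⟩) * ((⟨g', hy'⟩ : X) * ⟨g, hy⟩)⁻¹ by
        rw [commutatorElement_def]; group, conjFn_mul, hswap, ← conjFn_mul, mul_inv_cancel,
        conjFn_one]
    intro z hz
    obtain ⟨w, hw, hwz⟩ := hle hz
    have h1 : z * w⁻¹ ∈ J := by
      rw [hJ, Subgroup.mem_comap, map_mul, map_inv, hwz, mul_inv_cancel]
      exact Subgroup.one_mem _
    simpa using (inertia J (α : J → ℂ)).mul_mem (hJI h1) hw
  have hc : classInner (fun n : J => (ζ : Z → ℂ) (iJ n)) (α : J → ℂ) ≠ 0 := hα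
  have hrest : ∀ n : J, (ζ : Z → ℂ) (iJ n) =
      classInner (fun n : J => (ζ : Z → ℂ) (iJ n)) (α : J → ℂ) * (α : J → ℂ) n :=
    fun n => restrict_of_le_inertia J hJZ α.2 hZI ζ.2 hc n
  -- contradiction on the coset of c₀
  obtain ⟨g₀, hg₀⟩ := hqs c₀
  have hg₀X : g₀ ∈ X := by rw [hX, Subgroup.mem_comap, hg₀]; exact hY₁Y hc₀Y
  let gJ : J := ⟨⟨g₀, hg₀X⟩, by
    show q g₀ ∈ Subgroup.zpowers c₀
    rw [hg₀]
    exact Subgroup.mem_zpowers c₀⟩
  have hzero : ∀ n : qJ.ker, (α : J → ℂ) ((n : J) * gJ) = 0 := fun n => by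
    have h1 := hrest ((n : J) * gJ)
    rw [hvan _ (by
      show qJ ((n : J) * gJ) ≠ 1
      rw [map_mul, MonoidHom.mem_ker.1 n.2, one_mul]
      show q g₀ ≠ 1
      rwa [hg₀])] at h1
    exact (mul_eq_zero.1 h1.symm).resolve_left hc
  have h1 := coset_norm_avg qJ.ker α.2 hαN gJ
  simp only [hzero, zero_mul, Finset.sum_const_zero, mul_zero] at h1
  exact zero_ne_one h1

/-- A maximal inducing subgroup is impossible. -/
theorem no_maximal [Group.IsSolvable G] {χ : G → ℂ} (hχ : IsIrrCharacter G χ) (hqp : QP χ)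
    {K : Subgroup G} (hK : K ≠ ⊤) (hmax : ∀ K' : Subgroup G, K < K' → K' = ⊤) {ψ : K → ℂ}
    (hψ : IsCharacter K ψ) : indFun K ψ ≠ χ := by
  classical
  intro hind
  letI : Fintype K := Fintype.ofFinite K
  have hcl := Chars.isClassFunction_of_isCharacter (Chars.isCharacter_of_irr hχ)
  -- an irreducible inducing character
  obtain ⟨ψ', hψ', hind'⟩ : ∃ ψ' : K → ℂ, IsIrrCharacter K ψ' ∧ indFun K ψ' = χ := by
    haveI := Chars.irrFintype K
    have h1 : classInner (fun k : K => χ k) ψ = 1 := by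
      rw [← Chars.inner_indFun_right K ψ hcl, hind]
      exact (Chars.isIrrCharacter_iff_inner_self.1 hχ).2
    obtain ⟨ζ, hζ1, hζ2⟩ : ∃ ζ : IrrCharacter K, classInner ψ ζ ≠ 0 ∧
        classInner (fun k : K => χ k) ζ ≠ 0 := by
      by_contra hno
      push Not at hno
      rw [Chars.inner_eq_sum (Chars.isClassFunction_restrict K hcl) ψ, Finset.sum_eq_zero] at h1
      · exact zero_ne_one h1
      · intro ζ _
        by_cases hz : classInner ψ ζ = 0
        · simp [hz]
        · simp [hno ζ hz]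
    obtain ⟨z, -, hz⟩ := Chars.irr_degree_nat ζ.2
    obtain ⟨s, hs⟩ := Chars.character_degree_nat hψ
    have hzs : z ≤ s := by
      have := Chars.re_le_of_inner_ne_zero ζ.2 hψ hζ1
      rw [hz, hs, Complex.natCast_re, Complex.natCast_re] at this
      exact_mod_cast this
    refine ⟨ζ, ζ.2, eq_of_constituent_degree (Chars.isCharacter_indFun K
      (Chars.isCharacter_of_irr ζ.2)) hχ ?_ (d := K.index * z) ?_ (e := K.index * s) ?_
      (Nat.mul_le_mul_left _ hzs)⟩
    · rw [Chars.inner_indFun K _ hcl, ← Chars.inner_conj]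
      exact fun h0 => hζ2 (by simpa using h0)
    · rw [Chars.indFun_one_apply, hz, Nat.cast_mul]
    · rw [← hind, Chars.indFun_one_apply, hs, Nat.cast_mul]
  clear hind hψ ψ
  -- the core and a chief factor above it
  set L := K.normalCore with hL
  have hLK : L ≤ K := K.normalCore_le
  haveI hLn : L.Normal := Subgroup.normalCore_normal K
  set q := QuotientGroup.mk' L with hq
  have hqs : Function.Surjective q := QuotientGroup.mk'_surjective L
  have hker : q.ker = L := QuotientGroup.ker_mk' L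
  haveI : Nontrivial (G ⧸ L) := by
    rw [← Finite.one_lt_card_iff_nontrivial, ← Subgroup.index_eq_card]
    exact Subgroup.one_lt_index_of_ne_top fun e => hK (top_le_iff.1 (e ▸ hLK))
  obtain ⟨A, hAmin⟩ := CfsgLib.Base.exists_isMinimalNormal (G := G ⧸ L)
  haveI := hAmin.normal
  obtain ⟨p, hp, hAc, -, hAp⟩ := hAmin.exists_prime inferInstance
  haveI := Fact.mk hp
  set M := A.comap q with hM
  haveI hMn : M.Normal := Subgroup.Normal.comap inferInstance q
  have hLM : L ≤ M := hker ▸ Subgroup.ker_le_comap q A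
  have hMK : ¬ M ≤ K := fun hle => by
    have h1 : M ≤ L := Subgroup.normal_le_normalCore.2 hle
    refine hAmin.ne_bot ?_
    rw [← Subgroup.map_comap_eq_self_of_surjective hqs A, Subgroup.map_eq_bot_iff, hker]
    exact h1
  have hsup : M ⊔ K = ⊤ := hmax _ (lt_of_le_of_ne le_sup_right fun e => hMK (e ▸ le_sup_left))
  set H := K.map q with hH
  have hHcomap : H.comap q = K := by
    rw [hH, Subgroup.comap_map_eq, hker, sup_eq_left.2 hLK]
  have hAH : A ⊔ H = ⊤ := by
    rw [← Subgroup.map_comap_eq_self_of_surjective hqs A, hH, ← Subgroup.map_sup, hsup,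
      Subgroup.map_top_of_surjective q hqs]
  have hAcomm : ∀ a ∈ A, ∀ b ∈ A, a * b = b * a := fun a ha b hb =>
    congrArg Subtype.val (hAc.is_comm.comm ⟨a, ha⟩ ⟨b, hb⟩)
  have hAn : ∀ g : G ⧸ L, ∀ a ∈ A, g * a * g⁻¹ ∈ A := fun g a ha => hAmin.normal.conj_mem a ha g
  -- subgroups invariant under H and centralised or normalised by A are normal
  have hnormal : ∀ U : Subgroup (G ⧸ L), Inv H U → (∀ a ∈ A, ∀ u ∈ U, a * u * a⁻¹ ∈ U) →
      U.Normal := by
    intro U hU hUA
    have key : ∀ g : G ⧸ L, g ∈ A ⊔ H → ∀ u ∈ U, g * u * g⁻¹ ∈ U := fun g hg u hu => by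
      rw [← SetLike.mem_coe, Subgroup.normal_mul A H] at hg
      obtain ⟨a, ha, h, hh, rfl⟩ := hg
      rw [show a * h * u * (a * h)⁻¹ = a * (h * u * h⁻¹) * a⁻¹ by group]
      exact hUA a ha _ (hU h hh u hu)
    exact ⟨fun u hu g => key g (hAH ▸ Subgroup.mem_top g) u hu⟩
  have hcoreH : ∀ U : Subgroup (G ⧸ L), U.Normal → U ≤ H → U = ⊥ := fun U hU hle => by
    refine Subgroup.comap_injective hqs ?_
    rw [MonoidHom.comap_bot, hker]
    refine le_antisymm ?_ (hker.ge.trans (Subgroup.ker_le_comap q U))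
    haveI := hU
    haveI : (U.comap q).Normal := Subgroup.Normal.comap inferInstance q
    refine Subgroup.normal_le_normalCore.2 ?_
    rw [← hHcomap]
    exact Subgroup.comap_mono hle
  have hHi : Inv H H := fun h hh y hy => H.mul_mem (H.mul_mem hh hy) (H.inv_mem hh)
  have hinter : A ⊓ H = ⊥ := hcoreH _ (hnormal _
    (fun h hh y hy => ⟨hAn h y hy.1, hHi h hh y hy.2⟩)
    fun a ha u hu => by rw [hAcomm a ha u hu.1, mul_inv_cancel_right]; exact hu) inf_le_right
  have hfaith : ∀ h ∈ H, (∀ v ∈ A, h * v = v * h) → h = 1 := by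
    intro h hh hv
    have hi : Inv H (Subgroup.centralizer (A : Set (G ⧸ L))) :=
      Inv.centralizer (fun g _ y hy => hAn g y hy)
    have hD := hcoreH (H ⊓ Subgroup.centralizer (A : Set (G ⧸ L))) (hnormal _
      (fun g hg y hy => ⟨hHi g hg y hy.1, hi g hg y hy.2⟩)
      fun a ha u hu => by
        rw [Subgroup.mem_centralizer_iff.1 hu.2 a ha, mul_inv_cancel_right]; exact hu) inf_le_left
    have hm : h ∈ H ⊓ Subgroup.centralizer (A : Set (G ⧸ L)) :=
      ⟨hh, Subgroup.mem_centralizer_iff.2 fun v hvA => (hv v hvA).symm⟩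
    rwa [hD, Subgroup.mem_bot] at hm
  have hMinter : M ⊓ K = L := by
    rw [hM, ← hHcomap, ← Subgroup.comap_inf, hinter, MonoidHom.comap_bot, hker]
  have hcompl : Subgroup.IsComplement' A H := by
    refine Subgroup.isComplement'_of_disjoint_and_mul_eq_univ (disjoint_iff.2 hinter) ?_
    rw [← Subgroup.normal_mul A H, hAH, Subgroup.coe_top]
  have hcardA : L.relIndex M = Nat.card A := by
    have e : (⊥ : Subgroup (G ⧸ L)).comap q = L := by rw [MonoidHom.comap_bot, hker]
    have h1 : ((⊥ : Subgroup (G ⧸ L)).comap q).relIndex M = Nat.card A := by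
      rw [hM, Subgroup.relIndex_comap, Subgroup.map_comap_eq_self_of_surjective hqs,
        Subgroup.relIndex_bot_left]
    rwa [e] at h1
  have hKindex : K.index = Nat.card A := by
    rw [← hHcomap, Subgroup.index_comap_of_surjective H hqs]
    exact hcompl.index_eq_card
  have hMindex : M.index = Nat.card H := by
    rw [hM, Subgroup.index_comap_of_surjective A hqs]
    exact hcompl.symm.index_eq_card
  obtain ⟨n, hn⟩ := hAp.exists_card_eq
  have C : Ctx χ K L M ψ' p :=
    { irr := hχ, qp := hqp, psi := hψ', ind := hind', Lnormal := hLn, Mnormal := hMn, prime := hp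
      hLK := hLK, hLM := hLM, inter := hMinter, sup := hsup
      card := hcardA.trans hKindex.symm
      ppow := ⟨n, hKindex.trans hn⟩
      faith := fun x hxK hx => by
        refine hker.le (MonoidHom.mem_ker.2 (hfaith (q x) (Subgroup.mem_map_of_mem q hxK) ?_))
        intro v hv
        obtain ⟨m, rfl⟩ := hqs v
        have h1 : q (m * x * m⁻¹ * x⁻¹) = 1 := MonoidHom.mem_ker.1 (hker.ge (hx m hv))
        rw [map_mul, map_mul, map_mul, map_inv, map_inv, mul_inv_eq_one, mul_inv_eq_iff_eq_mul] at h1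
        exact h1.symm }
  -- the complement has too small a p-part
  have hsolH : Group.IsSolvable H := inferInstance
  refine not_card_dvd (p := p) (V := A) (H := H) hAmin.ne_bot hAcomm hAp hsolH ?_ hfaith
    (fun Y hYH hYi hYp hcen => C.class_two_abelian Y hYH hYi hYp hcen) ?_
  · intro U hUA hUi
    exact hAmin.eq_bot_or_eq (hnormal U hUi fun a ha u hu => by
      rw [hAcomm a ha u (hUA hu), mul_inv_cancel_right]; exact hu) hUA
  -- degrees
  letI : Fintype L := Fintype.ofFinite L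
  obtain ⟨θ, eθ, heθ, hθ, hθe, -⟩ := hqp.data hχ M
  obtain ⟨ϕ, eϕ, heϕ, hϕ, hϕe, -⟩ := hqp.data hχ L
  obtain ⟨t, ht, htdeg⟩ := chain_degree hχ hqp hϕ heϕ hϕe _ M hMn le_rfl hLM θ eθ hθ heθ hθe
  have hχtop : IsIrrCharacter (⊤ : Subgroup G) (fun x : (⊤ : Subgroup G) => χ x) :=
    Chars.isIrrCharacter_comp (Subgroup.topEquiv (G := G)).toMonoidHom Subgroup.topEquiv.surjective hχ
  obtain ⟨k, hk, hkdeg⟩ := chain_degree hχ hqp hθ heθ hθe _ ⊤ inferInstance le_rfl le_top
    (fun x : (⊤ : Subgroup G) => χ x) 1 hχtop one_ne_zero (fun x => (one_mul _).symm)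
  rw [Subgroup.relIndex_top_right] at hk
  obtain ⟨f, hf⟩ := mult_of_homog (φ := fun y : K => χ y)
    (Chars.isCharacter_restrict K (Chars.isCharacter_of_irr hχ)) hψ'
    (by rw [C.inner_eq]; exact one_ne_zero) (Subgroup.inclusion hLK) hϕ (fun l => hϕe l)
  obtain ⟨d, -, hd⟩ := Chars.irr_degree_nat hϕ
  have hd0 : 0 < d := Nat.pos_of_ne_zero fun e =>
    Chars.irr_degree_ne_zero hϕ (by rw [hd, e, Nat.cast_zero])
  have h1 : χ 1 = ((k * (t * d) : ℕ) : ℂ) := by
    have : χ ((1 : (⊤ : Subgroup G)) : G) = (k : ℂ) * θ 1 := hkdeg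
    rw [OneMemClass.coe_one, htdeg, hd] at this
    rw [this]; push_cast; rfl
  have h2 : χ 1 = ((K.index * (f * d) : ℕ) : ℂ) := by
    have h3 := hf 1
    rw [map_one, hd] at h3
    rw [← hind', Chars.indFun_one_apply, h3]; push_cast; rfl
  rw [h1, Nat.cast_inj] at h2
  have h3 : k * t = K.index * f :=
    Nat.eq_of_mul_eq_mul_right hd0 (by rw [mul_assoc, h2, mul_assoc])
  rw [hcardA, ← hKindex] at ht
  obtain ⟨u, hu⟩ := ht
  have hP0 : 0 < K.index := Nat.pos_of_ne_zero Subgroup.index_ne_zero_of_finite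
  have ht0 : 0 < t := Nat.pos_of_ne_zero fun e => by
    rw [e, zero_pow two_ne_zero, zero_mul] at hu; omega
  have h4 : k = t * (u * f) := Nat.eq_of_mul_eq_mul_right ht0 (by rw [h3, hu]; ring)
  rw [← hKindex, ← hMindex]
  refine dvd_trans ?_ hk
  rw [h4, hu]
  exact ⟨u * f ^ 2, by ring⟩

/-- Berger: a quasiprimitive character of a solvable group is primitive. -/
theorem primitive [Group.IsSolvable G] {χ : G → ℂ} (hχ : IsIrrCharacter G χ) (hqp : QP χ)
    {K : Subgroup G} (hK : K ≠ ⊤) {ψ : K → ℂ} (hψ : IsCharacter K ψ) : indFun K ψ ≠ χ := by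
  classical
  intro hind
  obtain ⟨K', hle, hmax⟩ := Finite.exists_le_maximal (p := fun K : Subgroup G => K ≠ ⊤) hK
  letI : Fintype K' := Fintype.ofFinite K'
  refine no_maximal hχ hqp hmax.1 (fun T hT => by
    by_contra h
    exact hT.not_ge (hmax.2 h hT.le)) (ψ := indFun (K.subgroupOf K')
      (fun x => ψ ⟨(x : K'), Subgroup.mem_subgroupOf.mp x.2⟩)) ?_ ?_
  · exact Chars.isCharacter_indFun _ (Chars.isCharacter_comp
      (Subgroup.subgroupOfEquivOfLe hle).toMonoidHom hψ)
  · rw [Chars.indFun_trans K K' hle ψ, hind]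

end CfsgLib.Berger
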